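import Mathlib

/-!
Small lemmas on sheaves of sets on small sites.
-/

universe u

open CategoryTheory CategoryTheory.Limits Opposite

namespace Groth.Agent.SubTopos.SiteLemmas

variable {C : Type u} [SmallCategory C] (J : GrothendieckTopology C)

theorem isDetecting (G : Set C)
    (hG : ∀ X : C, ∃ (ι : Type u) (Y : ι → C) (f : ∀ i, Y i ⟶ X), Sieve.ofArrows Y f ∈ J X ∧ ∀ i, Y i ∈ G) :
    (ObjectProperty.ofObj fun X : G => (presheafToSheaf J (Type u)).obj (yoneda.obj (X : C))).IsDetecting := by
  intro P Q φ h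
  have hb : ∀ X ∈ G, Function.Bijective (φ.hom.app (op X)) := by
    intro X hX
    let e : ∀ F : Sheaf J (Type u), ((presheafToSheaf J (Type u)).obj (yoneda.obj X) ⟶ F) ≃ F.obj.obj (op X) :=
      fun F => ((sheafificationAdjunction J (Type u)).homEquiv _ _).trans yonedaEquiv
    have he : ∀ g, e Q (g ≫ φ) = φ.hom.app (op X) (e P g) := by
      intro g
      simp only [e, Equiv.trans_apply, Adjunction.homEquiv_naturality_right, yonedaEquiv_comp]
      rfl
    constructor
    · intro a b hab
      obtain ⟨g₁, rfl⟩ := (e P).surjective a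
      obtain ⟨g₂, rfl⟩ := (e P).surjective b
      rw [← he, ← he] at hab
      obtain ⟨g, -, hg⟩ := h _ (ObjectProperty.ofObj_apply _ ⟨X, hX⟩) (g₁ ≫ φ)
      rw [hg g₁ rfl, hg g₂ ((e Q).injective hab).symm]
    · intro y
      obtain ⟨g₀, rfl⟩ := (e Q).surjective y
      obtain ⟨g, hg, -⟩ := h _ (ObjectProperty.ofObj_apply _ ⟨X, hX⟩) g₀
      exact ⟨e P g, by rw [← he, hg]⟩
  have hP : Presieve.IsSheaf J P.obj := (isSheaf_iff_isSheaf_of_type _ _).1 P.property
  haveI : Mono φ := by
    haveI : ∀ X, Mono (φ.hom.app X) := fun X => (mono_iff_injective _).2 fun a b hab => by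
      obtain ⟨ι, Y, f, hcov, hY⟩ := hG X.unop
      refine (hP _ hcov).isSeparatedFor.ext ?_
      rintro Z _ ⟨W, t, g, ⟨i⟩, rfl⟩
      rw [op_comp, Functor.map_comp_apply, Functor.map_comp_apply]
      congr 1
      refine (hb _ (hY i)).1 ?_
      rw [NatTrans.naturality_apply, NatTrans.naturality_apply, hab]
    haveI : Mono φ.hom := NatTrans.mono_of_mono_app _
    exact (sheafToPresheaf J (Type u)).mono_of_mono_map ‹_›
  haveI : Epi φ := by
    refine (Sheaf.isLocallySurjective_iff_epi φ).1 ⟨fun {U} y => ?_⟩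
    obtain ⟨ι, Y, f, hcov, hY⟩ := hG U
    refine J.superset_covering ?_ hcov
    rintro Z _ ⟨W, t, g, ⟨i⟩, rfl⟩
    refine (Presheaf.imageSieve φ.hom y).downward_closed ?_ t
    exact (hb _ (hY i)).2 _
  exact isIso_of_mono_of_epi φ

variable {J} {C' : Type u} [SmallCategory C'] {J' : GrothendieckTopology C'}

theorem isCocontinuous (u : C ⥤ C')
    (h : ∀ G : Sheaf J (Type u), Presheaf.IsSheaf J' ((u.op.ran).obj G.obj)) :
    u.IsCocontinuous J J' := by
  constructor
  intro Y R hR
  let w : (Cᵒᵖ ⥤ Type u) ⥤ Sheaf J (Type u) := presheafToSheaf J (Type u)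
  let adj := sheafificationAdjunction J (Type u)
  let wl := (Functor.whiskeringLeft Cᵒᵖ C'ᵒᵖ (Type u)).obj u.op
  haveI : IsIso (w.map (wl.map R.functorInclusion)) := by
    refine isIso_of_coyoneda_map_bijective _ fun G => ?_
    have hsh : Presieve.IsSheaf J' ((u.op.ran).obj G.obj) := (isSheaf_iff_isSheaf_of_type _ _).1 (h G)
    have hr : Function.Bijective fun (x : yoneda.obj (u.obj Y) ⟶ (u.op.ran).obj G.obj) => R.functorInclusion ≫ x := by
      have h1 := Presieve.isSheafFor_iff_yonedaSheafCondition.1 (hsh R hR)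
      exact ⟨fun a b hab => (h1 (R.functorInclusion ≫ a)).unique rfl hab.symm,
        fun f => (h1 f).exists⟩
    let e : ∀ P : C'ᵒᵖ ⥤ Type u, (w.obj (wl.obj P) ⟶ G) ≃ (P ⟶ (u.op.ran).obj G.obj) := fun P =>
      (adj.homEquiv _ _).trans ((u.op.ranAdjunction (Type u)).homEquiv _ _)
    have he : ∀ (x : w.obj (wl.obj (yoneda.obj (u.obj Y))) ⟶ G),
        e _ (w.map (wl.map R.functorInclusion) ≫ x) = R.functorInclusion ≫ e _ x := fun x => by
      simp only [e, Equiv.trans_apply, Adjunction.homEquiv_naturality_left, w, wl]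
    constructor
    · intro a b hab
      refine (e _).injective (hr.1 ?_)
      show R.functorInclusion ≫ e _ a = R.functorInclusion ≫ e _ b
      rw [← he, ← he]
      exact congrArg (e _) hab
    · intro b
      obtain ⟨x, hx⟩ := hr.2 (e _ b)
      refine ⟨(e _).symm x, (e _).injective ?_⟩
      rw [he, Equiv.apply_symm_apply]
      exact hx
  have hs : Presheaf.IsLocallySurjective J (wl.map R.functorInclusion) := by
    rw [← Presheaf.isLocallySurjective_presheafToSheaf_map_iff]
    exact (Sheaf.isLocallySurjective_iff_epi _).2 inferInstance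
  refine J.superset_covering ?_ (Presheaf.imageSieve_mem J (wl.map R.functorInclusion)
    (show (wl.obj (yoneda.obj (u.obj Y))).obj (op Y) from 𝟙 (u.obj Y)))
  rintro Z g ⟨⟨z, hz⟩, hzg⟩
  show R.arrows (u.map g)
  have : z = u.map g ≫ 𝟙 (u.obj Y) := hzg
  rw [this, Category.comp_id] at hz
  exact hz

theorem isColimit_cofan {J J' : GrothendieckTopology C} (hJ : J ≤ J') {ι : Type u} {P : Cᵒᵖ ⥤ Type u}
    {Q : ι → Cᵒᵖ ⥤ Type u} (q : ∀ i, Q i ⟶ P)
    (h : IsColimit (Cofan.mk ((presheafToSheaf J (Type u)).obj P) fun i => (presheafToSheaf J (Type u)).map (q i))) :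
    Nonempty (IsColimit (Cofan.mk ((presheafToSheaf J' (Type u)).obj P)
      fun i => (presheafToSheaf J' (Type u)).map (q i))) := by
  let inc : Sheaf J' (Type u) ⥤ Sheaf J (Type u) :=
    ObjectProperty.lift _ (sheafToPresheaf J' (Type u)) fun G =>
      (isSheaf_iff_isSheaf_of_type _ _).2 (Presieve.isSheaf_of_le _ hJ ((isSheaf_iff_isSheaf_of_type _ _).1 G.property))
  let L : Sheaf J (Type u) ⥤ Sheaf J' (Type u) := sheafToPresheaf J (Type u) ⋙ presheafToSheaf J' (Type u)
  let adjL : L ⊣ inc := (sheafificationAdjunction J' (Type u)).restrictFullyFaithful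
    (fullyFaithfulSheafToPresheaf J (Type u)) (Functor.FullyFaithful.id _) (Iso.refl _) (Iso.refl _)
  haveI := adjL.leftAdjoint_preservesColimits
  let adjc := (sheafificationAdjunction J (Type u)).comp adjL
  let θ : presheafToSheaf J (Type u) ⋙ L ≅ presheafToSheaf J' (Type u) :=
    adjc.leftAdjointUniq ((sheafificationAdjunction J' (Type u)).ofNatIsoRight
      (Iso.refl _ : sheafToPresheaf J' (Type u) ≅ inc ⋙ sheafToPresheaf J (Type u)))
  have h1 := isColimitCofanMkObjOfIsColimit L _ _ h
  let e : Discrete.functor (fun i => (presheafToSheaf J' (Type u)).obj (Q i)) ≅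
      Discrete.functor fun i => L.obj ((presheafToSheaf J (Type u)).obj (Q i)) :=
    Discrete.natIso fun i => (θ.app (Q i.as)).symm
  refine ⟨IsColimit.ofIsoColimit ((IsColimit.precomposeHomEquiv e _).symm h1) (Cocone.ext (θ.app P) fun i => ?_)⟩
  show ((θ.app (Q i.as)).inv ≫ L.map ((presheafToSheaf J (Type u)).map (q i.as))) ≫ θ.hom.app P = _
  rw [Category.assoc]
  exact (congrArg (θ.inv.app (Q i.as) ≫ ·) (θ.hom.naturality (q i.as))).trans (Iso.inv_hom_id_app_assoc θ _ _)

variable (J) (K : GrothendieckTopology C') (u : C ⥤ C') [u.IsContinuous J K] [u.IsCocontinuous J K]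

theorem sheafPullback_ff [u.Full] [u.Faithful] :
    (u.sheafPullback (Type u) J K).Full ∧ (u.sheafPullback (Type u) J K).Faithful := by
  let H := u.sheafPushforwardCocontinuous (Type u) J K
  let t : Adjunction.Triple (u.sheafPullback (Type u) J K) (u.sheafPushforwardContinuous (Type u) J K) H :=
    ⟨u.sheafAdjunctionContinuous (Type u) J K, u.sheafAdjunctionCocontinuous (Type u) J K⟩
  haveI : IsIso (u.op.ranAdjunction (Type u)).counit := inferInstance
  let ff : (u.op.ran : (Cᵒᵖ ⥤ Type u) ⥤ _).FullyFaithful :=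
    (u.op.ranAdjunction (Type u)).fullyFaithfulROfIsIsoCounit
  let hH : H.FullyFaithful := Functor.FullyFaithful.ofCompFaithful (G := sheafToPresheaf K (Type u))
    (((fullyFaithfulSheafToPresheaf J (Type u)).comp ff).ofIso
      (u.sheafPushforwardCocontinuousCompSheafToPresheafIso (Type u) J K).symm)
  exact ⟨(t.fullyFaithfulEquiv.symm hH).full, (t.fullyFaithfulEquiv.symm hH).faithful⟩

theorem ff_of_sheafPullback [J.Subcanonical] [K.Subcanonical] [(u.sheafPullback (Type u) J K).Full]
    [(u.sheafPullback (Type u) J K).Faithful] : u.Full ∧ u.Faithful := by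
  let adj := u.sheafAdjunctionContinuous (Type u) J K
  haveI : IsIso adj.unit := inferInstance
  have hb : ∀ X X' : C, Function.Bijective fun g : X ⟶ X' => u.map g := by
    intro X X'
    let v := J.yonedaEquiv (adj.unit.app (J.yoneda.obj X'))
    let η := adj.unit.app (J.yoneda.obj X')
    have hφ : Function.Bijective (η.hom.app (op X)) :=
      (isIso_iff_bijective _).1 (inferInstanceAs
        (IsIso (((sheafToPresheaf J (Type u)) ⋙ (evaluation Cᵒᵖ (Type u)).obj (op X)).map η)))
    let U := (u.sheafPullback (Type u) J K).obj (J.yoneda.obj X')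
    let x₀ : U.obj.obj (op (u.obj X')) := η.hom.app (op X') (𝟙 X')
    let γ : K.yoneda.obj (u.obj X') ⟶ U := K.yonedaEquiv.symm x₀
    haveI : IsIso γ := by
      refine isIso_of_coyoneda_map_bijective _ fun G => ?_
      let e := (adj.homEquiv (J.yoneda.obj X') G).trans J.yonedaEquiv
      have he : ∀ f, K.yonedaEquiv (γ ≫ f) = e f := by
        intro f
        rw [GrothendieckTopology.yonedaEquiv_comp]
        simp only [γ, Equiv.apply_symm_apply, e, Equiv.trans_apply, Adjunction.homEquiv_unit]
        rfl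
      refine (Function.Bijective.of_comp_iff' K.yonedaEquiv.bijective _).1 ?_
      rw [show (⇑K.yonedaEquiv ∘ fun f => γ ≫ f) = ⇑e from funext he]
      exact e.bijective
    have hγ : Function.Bijective (γ.hom.app (op (u.obj X))) :=
      (isIso_iff_bijective _).1 (inferInstanceAs
        (IsIso (((sheafToPresheaf K (Type u)) ⋙ (evaluation C'ᵒᵖ (Type u)).obj (op (u.obj X))).map γ)))
    have key : ∀ g : X ⟶ X', γ.hom.app (op (u.obj X)) (u.map g) = η.hom.app (op X) g := by
      intro g
      have h1 := K.yonedaEquiv_symm_app_apply x₀ (op (u.obj X)) (u.map g)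
      refine h1.trans ?_
      have h2 := ConcreteCategory.congr_hom (η.hom.naturality g.op) (𝟙 X')
      exact h2.symm.trans (congrArg (η.hom.app (op X)) (Category.comp_id g))
    refine (Function.Bijective.of_comp_iff' hγ _).1 ?_
    rw [show (⇑(ConcreteCategory.hom (γ.hom.app (op (u.obj X)))) ∘ fun g : X ⟶ X' => u.map g) =
      ⇑(ConcreteCategory.hom (η.hom.app (op X))) from funext key]
    exact hφ
  exact ⟨⟨fun {X X'} => (hb X X').2⟩, ⟨fun {X X'} _ _ h => (hb X X').1 h⟩⟩

end Groth.Agent.SubTopos.SiteLemmas
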