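import Groth.Agent.SubTopos.Basic

/-!
Open and closed subtopos of a sheaf topos: reflector onto the closed complement, lexness, conservativity, gluing.
-/

universe w v u

open CategoryTheory CategoryTheory.Limits

namespace Groth.Agent.SubTopos

variable {C : Type u} [SmallCategory C] {J : GrothendieckTopology C} {U : Sheaf J (Type u)}

theorem hom_subsingleton (hU : SGA4.IsOpen U) {T : Sheaf J (Type u)} (a b : T ⟶ U) : a = b := by
  haveI : Mono (terminal.from U) := hU
  rw [← cancel_mono (terminal.from U)]
  exact terminal.hom_ext _ _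

variable (hU : SGA4.IsOpen U)

/-- the reflection onto the closed complement -/
theorem cadj (hU : SGA4.IsOpen U) : (SGA4.closedCompl U).ι.IsRightAdjoint :=
  ⟨_, ⟨Adjunction.adjunctionOfEquivLeft (G := (SGA4.closedCompl U).ι)
    (F_obj := fun X => ⟨cU U X, closed_cU (hom_subsingleton hU) X⟩)
    (fun X Y =>
      { toFun := fun f => inr U X ≫ f.hom
        invFun := fun f => ObjectProperty.homMk (desc (hom_subsingleton hU) Y.property f)
        left_inv := fun f => ObjectProperty.hom_ext _
          (cU_hom_ext (hom_subsingleton hU) Y.property (inr_desc (hom_subsingleton hU) Y.property _))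
        right_inv := fun f => inr_desc (hom_subsingleton hU) Y.property f })
    (fun X Y Y' g h => by
      exact (Category.assoc (inr U X) h.hom g.hom).symm)⟩⟩

/-- `X ↦ U ⨿_{U × X} X` as a functor -/
noncomputable def cUFunctor : Sheaf J (Type u) ⥤ Sheaf J (Type u) where
  obj X := cU U X
  map {X Y} f := pushout.map _ _ _ _ (𝟙 U) f (prod.map (𝟙 U) f) (by simp) (by simp)
  map_id X := by
    apply pushout.hom_ext
    · simp only [pushout.map, pushout.inl_desc, Category.id_comp, Category.comp_id]
    · rw [pushout.map, pushout.inr_desc, Category.comp_id]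
      first | exact Category.id_comp _ | skip
  map_comp f g := by
    apply pushout.hom_ext
    · simp only [pushout.map, pushout.inl_desc, pushout.inl_desc_assoc, Category.id_comp, Category.comp_id]
    · simp only [pushout.map, pushout.inr_desc, pushout.inr_desc_assoc, Category.assoc]
      try exact Category.assoc _ _ _

theorem inl_map {X Y : Sheaf J (Type u)} (f : X ⟶ Y) :
    inl U X ≫ (cUFunctor (U := U)).map f = inl U Y :=
  (pushout.inl_desc _ _ _).trans (Category.id_comp _)

theorem inr_map {X Y : Sheaf J (Type u)} (f : X ⟶ Y) :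
    inr U X ≫ (cUFunctor (U := U)).map f = f ≫ inr U Y :=
  pushout.inr_desc _ _ _

/-- the presheaf version of `X ↦ U ⨿_{U × X} X` -/
noncomputable def preCU : Sheaf J (Type u) ⥤ (Cᵒᵖ ⥤ Type u) where
  obj X := pushout (prod.fst : U ⨯ X ⟶ U).hom (prod.snd : U ⨯ X ⟶ X).hom
  map {X Y} f := pushout.map _ _ _ _ (𝟙 _) f.hom (prod.map (𝟙 U) f).hom
    (by
      rw [Category.comp_id]
      exact (congrArg (·.hom) ((prod.map_fst (𝟙 U) f).trans (Category.comp_id _))).symm)
    (by exact (congrArg (·.hom) (prod.map_snd (𝟙 U) f)).symm)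
  map_id X := by
    apply pushout.hom_ext
    · simp only [pushout.map, pushout.inl_desc, Category.id_comp, Category.comp_id]
    · rw [pushout.map, pushout.inr_desc, Category.comp_id]
      first | exact Category.id_comp _ | skip
  map_comp f g := by
    apply pushout.hom_ext
    · simp only [pushout.map, pushout.inl_desc, pushout.inl_desc_assoc, Category.id_comp, Category.comp_id]
    · simp only [pushout.map, pushout.inr_desc, pushout.inr_desc_assoc, Category.assoc]
      try exact Category.assoc _ _ _

include hU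

theorem preserves_preCU : PreservesFiniteLimits (preCU (J := J) (U := U)) := by
  refine ⟨fun K _ _ => ?_⟩
  refine preservesLimitsOfShape_of_evaluation _ K fun c => ?_
  let G : Sheaf J (Type u) ⥤ Type u := sheafToPresheaf J (Type u) ⋙ (evaluation Cᵒᵖ (Type u)).obj c
  have hpb : ∀ X, IsPullback (G.map (prod.fst : U ⨯ X ⟶ U)) (G.map (prod.snd : U ⨯ X ⟶ X))
      (G.map (terminal.from U)) (G.map (terminal.from X)) := fun X =>
    (IsPullback.of_is_product (c := BinaryFan.mk (prod.fst : U ⨯ X ⟶ U) prod.snd) (prodIsProd _ _)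
      terminalIsTerminal).map G
  by_cases hne : Nonempty (G.obj U)
  · have hsub : Subsingleton (G.obj U) := by
      haveI : Mono (terminal.from U) := hU
      have h2 : Function.Injective (G.map (terminal.from U)) := (mono_iff_injective _).1 inferInstance
      have h3 : IsTerminal (G.obj (⊤_ Sheaf J (Type u))) := terminalIsTerminal.isTerminalObj G _
      exact ⟨fun a b => h2 ((Types.isTerminalEquivUnique _ h3).uniq _ |>.trans
        ((Types.isTerminalEquivUnique _ h3).uniq _).symm)⟩
    have hT : IsTerminal (G.obj U) :=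
      (Types.isTerminalEquivUnique _).symm ⟨⟨hne.some⟩, fun a => hsub.elim _ _⟩
    haveI : ∀ X, IsIso (G.map (prod.snd : U ⨯ X ⟶ X)) := fun X => by
      haveI : IsIso (G.map (terminal.from U)) :=
        isIso_of_isTerminal hT (terminalIsTerminal.isTerminalObj G _) _
      exact (hpb X).isIso_snd_of_isIso
    have hp : ∀ X, IsPushout (G.map (prod.fst : U ⨯ X ⟶ U)) (G.map (prod.snd : U ⨯ X ⟶ X))
        ((pushout.inl (prod.fst : U ⨯ X ⟶ U).hom (prod.snd : U ⨯ X ⟶ X).hom).app c)
        ((pushout.inr (prod.fst : U ⨯ X ⟶ U).hom (prod.snd : U ⨯ X ⟶ X).hom).app c) := fun X =>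
      (IsPushout.of_hasPushout _ _).map ((evaluation Cᵒᵖ (Type u)).obj c)
    haveI : ∀ X, IsIso ((pushout.inl (prod.fst : U ⨯ X ⟶ U).hom (prod.snd : U ⨯ X ⟶ X).hom).app c) :=
      fun X => (hp X).isIso_inl_of_isIso
    let e : (Functor.const (Sheaf J (Type u))).obj (G.obj U) ≅ preCU ⋙ (evaluation Cᵒᵖ (Type u)).obj c :=
      NatIso.ofComponents (fun X => @asIso _ _ _ _
        ((pushout.inl (prod.fst : U ⨯ X ⟶ U).hom (prod.snd : U ⨯ X ⟶ X).hom).app c) (this X)) (fun {X Y} f => by
        have h : pushout.inl (prod.fst : U ⨯ X ⟶ U).hom (prod.snd : U ⨯ X ⟶ X).hom ≫ (preCU (U := U)).map f =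
            pushout.inl (prod.fst : U ⨯ Y ⟶ U).hom (prod.snd : U ⨯ Y ⟶ Y).hom :=
          (pushout.inl_desc _ _ _).trans (Category.id_comp _)
        exact (Category.id_comp _).trans (NatTrans.congr_app h c).symm)
    haveI : PreservesLimitsOfShape K ((Functor.const (Sheaf J (Type u))).obj (G.obj U)) :=
      ⟨fun {F} => ⟨fun {cn} _ => ⟨
        { lift := fun s => hT.from _
          fac := fun s j => hT.hom_ext _ _
          uniq := fun s m _ => hT.hom_ext _ _ }⟩⟩⟩
    exact preservesLimitsOfShape_of_natIso e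
  · haveI : IsEmpty (G.obj U) := not_nonempty_iff.1 hne
    haveI : ∀ X, IsIso (G.map (prod.fst : U ⨯ X ⟶ U)) := fun X => by
      haveI : IsEmpty (G.obj (U ⨯ X)) :=
        Function.isEmpty (G.map (prod.fst : U ⨯ X ⟶ U) : G.obj (U ⨯ X) → G.obj U)
      exact (isIso_iff_bijective _).2 ⟨fun a => isEmptyElim a, fun a => isEmptyElim a⟩
    have hp : ∀ X, IsPushout (G.map (prod.fst : U ⨯ X ⟶ U)) (G.map (prod.snd : U ⨯ X ⟶ X))
        ((pushout.inl (prod.fst : U ⨯ X ⟶ U).hom (prod.snd : U ⨯ X ⟶ X).hom).app c)
        ((pushout.inr (prod.fst : U ⨯ X ⟶ U).hom (prod.snd : U ⨯ X ⟶ X).hom).app c) := fun X =>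
      (IsPushout.of_hasPushout _ _).map ((evaluation Cᵒᵖ (Type u)).obj c)
    haveI : ∀ X, IsIso ((pushout.inr (prod.fst : U ⨯ X ⟶ U).hom (prod.snd : U ⨯ X ⟶ X).hom).app c) :=
      fun X => (hp X).isIso_inr_of_isIso
    let e : G ≅ preCU ⋙ (evaluation Cᵒᵖ (Type u)).obj c :=
      NatIso.ofComponents (fun X => @asIso _ _ _ _
        ((pushout.inr (prod.fst : U ⨯ X ⟶ U).hom (prod.snd : U ⨯ X ⟶ X).hom).app c) (this X)) (fun {X Y} f => by
        have h : pushout.inr (prod.fst : U ⨯ X ⟶ U).hom (prod.snd : U ⨯ X ⟶ X).hom ≫ (preCU (U := U)).map f =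
            f.hom ≫ pushout.inr (prod.fst : U ⨯ Y ⟶ U).hom (prod.snd : U ⨯ Y ⟶ Y).hom :=
          pushout.inr_desc _ _ _
        exact (NatTrans.congr_app h c).symm)
    exact preservesLimitsOfShape_of_natIso e

theorem preserves_cU : PreservesFiniteLimits (cUFunctor (J := J) (U := U)) := by
  haveI := preserves_preCU hU
  let S := presheafToSheaf J (Type u)
  let adj := sheafificationAdjunction J (Type u)
  haveI : ∀ X, IsIso (adj.counit.app X) := inferInstance
  let c : ∀ X, (preCU (J := J) (U := U)).obj X ⟶ (cU U X).obj := fun X =>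
    pushout.desc (inl U X).hom (inr U X).hom (congrArg (·.hom)
      (pushout.condition : (prod.fst : U ⨯ X ⟶ U) ≫ inl U X = prod.snd ≫ inr U X))
  let θ : preCU ⋙ S ⟶ cUFunctor (J := J) (U := U) :=
    { app := fun X => (adj.homEquiv _ _).symm (c X)
      naturality := fun X Y f => by
        show S.map _ ≫ _ = _ ≫ (cUFunctor (U := U)).map f
        rw [← adj.homEquiv_naturality_left_symm, ← adj.homEquiv_naturality_right_symm]
        congr 1
        apply pushout.hom_ext
        · dsimp only [preCU, c]
          erw [pushout.inl_desc_assoc, Category.assoc, pushout.inl_desc, pushout.inl_desc_assoc, Category.id_comp]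
          exact (congrArg (fun z : U ⟶ cU U Y => z.hom) (inl_map f)).symm
        · dsimp only [preCU, c]
          erw [pushout.inr_desc_assoc, Category.assoc, pushout.inr_desc, pushout.inr_desc_assoc]
          exact (congrArg (fun z : X ⟶ cU U Y => z.hom) (inr_map f)).symm }
  haveI : ∀ X, IsIso (θ.app X) := fun X => by
    have h1 := (IsPushout.of_hasPushout (prod.fst : U ⨯ X ⟶ U).hom (prod.snd : U ⨯ X ⟶ X).hom).map S
    have h2 : IsPushout (S.map (prod.fst : U ⨯ X ⟶ U).hom) (S.map (prod.snd : U ⨯ X ⟶ X).hom)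
        (adj.counit.app U ≫ inl U X) (adj.counit.app X ≫ inr U X) :=
      (IsPushout.of_hasPushout (prod.fst : U ⨯ X ⟶ U) (prod.snd : U ⨯ X ⟶ X)).of_iso
        (asIso (adj.counit.app (U ⨯ X))).symm (asIso (adj.counit.app U)).symm (asIso (adj.counit.app X)).symm
        (Iso.refl _)
        (by rw [Iso.symm_hom, Iso.symm_hom, asIso_inv, asIso_inv, IsIso.eq_inv_comp, ← Category.assoc,
              IsIso.comp_inv_eq]
            exact (adj.counit.naturality _).symm)
        (by rw [Iso.symm_hom, Iso.symm_hom, asIso_inv, asIso_inv, IsIso.eq_inv_comp, ← Category.assoc,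
              IsIso.comp_inv_eq]
            exact (adj.counit.naturality _).symm)
        (by simp) (by simp)
    have he : θ.app X = (h1.isoIsPushout _ _ h2).hom := by
      apply h1.hom_ext
      · refine Eq.trans ?_ (IsPushout.inl_isoIsPushout_hom _ _ h1 h2).symm
        show S.map _ ≫ (adj.homEquiv _ _).symm (c X) = _
        rw [← adj.homEquiv_naturality_left_symm]
        erw [pushout.inl_desc]
        rw [adj.homEquiv_counit]
        exact adj.counit.naturality (inl U X)
      · refine Eq.trans ?_ (IsPushout.inr_isoIsPushout_hom _ _ h1 h2).symm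
        show S.map _ ≫ (adj.homEquiv _ _).symm (c X) = _
        rw [← adj.homEquiv_naturality_left_symm]
        erw [pushout.inr_desc]
        rw [adj.homEquiv_counit]
        exact adj.counit.naturality (inr U X)
    rw [he]
    infer_instance
  exact ⟨fun K _ _ => preservesLimitsOfShape_of_natIso (NatIso.ofComponents (fun X => asIso (θ.app X))
    (fun f => θ.naturality f))⟩

variable {L : Sheaf J (Type u) ⥤ (SGA4.closedCompl U).FullSubcategory} (adj : L ⊣ (SGA4.closedCompl U).ι)

omit hU in
/-- the unit, with honest type -/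
noncomputable def unit' (X : Sheaf J (Type u)) : X ⟶ (L.obj X).obj := adj.unit.app X

theorem exists_natIso : ∃ θ : cUFunctor (J := J) (U := U) ≅ L ⋙ (SGA4.closedCompl U).ι,
    ∀ X, inr U X ≫ θ.hom.app X = unit' adj X := by
  have hU' := @hom_subsingleton C _ J U hU
  refine ⟨NatIso.ofComponents (fun X =>
    { hom := desc hU' (L.obj X).property (unit' adj X)
      inv := ((adj.homEquiv X ⟨cU U X, closed_cU hU' X⟩).symm (inr U X)).hom
      hom_inv_id := cU_hom_ext hU' (closed_cU hU' X) (by
        refine ((inr_desc_assoc hU' (L.obj X).property (unit' adj X) _).trans ?_).trans (Category.comp_id _).symm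
        exact (Adjunction.homEquiv_unit ..).symm.trans (Equiv.apply_symm_apply _ _))
      inv_hom_id := by
        refine congrArg (·.hom) ((adj.homEquiv X (L.obj X)).injective
          (a₁ := (adj.homEquiv X ⟨cU U X, closed_cU hU' X⟩).symm (inr U X) ≫
            ObjectProperty.homMk (desc hU' (L.obj X).property (unit' adj X))) (a₂ := 𝟙 _) ?_)
        rw [adj.homEquiv_naturality_right, Equiv.apply_symm_apply, adj.homEquiv_id]
        exact inr_desc hU' (L.obj X).property (unit' adj X) }) (fun {X Y} f => cU_hom_ext hU' (L.obj Y).property (by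
      refine (reassoc_of% inr_map f) _ |>.trans ?_
      refine ((congrArg (f ≫ ·) (inr_desc hU' (L.obj Y).property (unit' adj Y))).trans ?_).trans
        (inr_desc_assoc hU' (L.obj X).property (unit' adj X) _).symm
      exact adj.unit.naturality f)), fun X => inr_desc hU' (L.obj X).property (unit' adj X)⟩

include adj in
theorem preserves_L : PreservesFiniteLimits L := by
  obtain ⟨θ, -⟩ := exists_natIso hU adj
  refine ⟨fun K _ _ => ?_⟩
  haveI := preserves_cU hU
  haveI : PreservesLimitsOfShape K (L ⋙ (SGA4.closedCompl U).ι) := preservesLimitsOfShape_of_natIso θ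
  exact preservesLimitsOfShape_of_reflects_of_preserves L (SGA4.closedCompl U).ι

omit hU in
theorem isIso_star_map_iff {X Y : Sheaf J (Type u)} (m : X ⟶ Y) :
    IsIso ((Over.star U).map m) ↔ IsIso (prod.map (𝟙 U) m) := by
  rw [← isIso_iff_of_reflects_iso _ (Over.forget U)]
  have h : (Over.forget U).map ((Over.star U).map m) = prod.map (𝟙 U) m := by
    apply prod.hom_ext <;> simp [Over.star]
  rw [h]
  rfl

include adj in
theorem jointly_conservative {X Y : Sheaf J (Type u)} (m : X ⟶ Y) :
    IsIso m ↔ IsIso ((Over.star U).map m) ∧ IsIso (L.map m) := by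
  refine ⟨fun _ => ⟨inferInstance, inferInstance⟩, fun ⟨h1, h2⟩ => ?_⟩
  obtain ⟨θ, -⟩ := exists_natIso hU adj
  rw [isIso_star_map_iff] at h1
  haveI : IsIso ((SGA4.closedCompl U).ι.map (L.map m)) := inferInstance
  have h3 : IsIso ((cUFunctor (U := U)).map m) :=
    (NatIso.isIso_map_iff θ m).2 (inferInstanceAs (IsIso ((SGA4.closedCompl U).ι.map (L.map m))))
  exact @isIso_of_isIso _ _ _ _ _ _ _ (@hom_subsingleton C _ J U hU) X Y m _ (inl_map m) (inr_map m) h1 h3

end Groth.Agent.SubTopos
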