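import Groth.Agent.SubTopos.GiraudEmbed

/-!
Giraud's theorem, second part: `E` is equivalent to sheaves on its small generating subcategory.
-/

universe v u

open CategoryTheory CategoryTheory.Limits Opposite

namespace Groth.Agent.SubTopos.Giraud

variable {E : Type v} [Category.{u} E] [HasFiniteLimits E] [Ax E] {J₀ : Type u} (G : J₀ → E)
  (hG : (ObjectProperty.ofObj G).IsDetecting)

/-- the small generating category -/
abbrev Site := InducedCategory E G

/-- arrows of a sieve, as a family in `E` -/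
abbrev Arr {X : Site G} (S : Sieve X) : Type u := Σ Y : Site G, {f : Y ⟶ X // S f}

include hG

/-- refining a cover along a map -/
theorem cov_refine {ι : Type u} {Y : ι → E} {A : E} {f : ∀ i, Y i ⟶ A} (hf : Cov f) {X : Site G} (g : G X ⟶ A)
    (S : Sieve X) (hS : ∀ (Z : Site G) (r : Z ⟶ X) (i : ι) (s : G Z ⟶ Y i), s ≫ f i = r.hom ≫ g → S r) :
    Cov fun a : Arr G S => a.2.1.hom := by
  refine (hf.pullback g).trans _ fun i => ⟨_, _, _, cov_allMaps hG (pullback g (f i)), fun a => ?_⟩
  refine ⟨⟨a.1, InducedCategory.homMk (a.2 ≫ pullback.fst g (f i)),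
    hS a.1 _ i (a.2 ≫ pullback.snd g (f i)) ?_⟩, 𝟙 _, Category.id_comp _⟩
  show (a.2 ≫ pullback.snd g (f i)) ≫ f i = (a.2 ≫ pullback.fst g (f i)) ≫ g
  rw [Category.assoc, Category.assoc, pullback.condition]

/-- the induced topology -/
noncomputable def topology : GrothendieckTopology (Site G) where
  sieves X := {S | Cov fun a : Arr G S => a.2.1.hom}
  top_mem' X := fun Z m _ h => by
    obtain ⟨g, hg⟩ := h ⟨X, 𝟙 X, trivial⟩
    haveI : IsSplitEpi m := ⟨⟨g, hg⟩⟩
    exact isIso_of_mono_of_isSplitEpi m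
  pullback_stable' X Y S g hS := by
    refine cov_refine G hG hS g.hom (S.pullback g) fun Z r i s h => ?_
    show S (r ≫ g)
    have : r ≫ g = InducedCategory.homMk s ≫ i.2.1 := InducedCategory.hom_ext h.symm
    rw [this]
    exact S.downward_closed i.2.2 _
  transitive' X S hS R hR := by
    refine Cov.trans hS _ fun a => ⟨_, _, _, hR a.2.2, fun b => ?_⟩
    exact ⟨⟨b.1, b.2.1 ≫ a.2.1, b.2.2⟩, 𝟙 _, Category.id_comp _⟩

theorem mem_topology_iff {X : Site G} (S : Sieve X) :
    S ∈ topology G hG X ↔ Cov fun a : Arr G S => a.2.1.hom := Iff.rfl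

/-- representable sheaves -/
noncomputable def embed : E ⥤ Sheaf (topology G hG) (Type u) :=
  ObjectProperty.lift _ (yoneda ⋙ (Functor.whiskeringLeft (Site G)ᵒᵖ Eᵒᵖ (Type u)).obj (inducedFunctor G).op)
    fun Z => (isSheaf_iff_isSheaf_of_type _ _).2 fun X S hS x hx => by
      obtain ⟨d, hd, hu⟩ := Cov.existsUnique_desc (G := G) hG hS (fun a => x a.2.1 a.2.2) (fun c i j a b h => by
        exact hx (InducedCategory.homMk a : (show Site G from c) ⟶ i.1) (InducedCategory.homMk b : (show Site G from c) ⟶ j.1)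
          i.2.2 j.2.2 (InducedCategory.hom_ext h))
      exact ⟨d, fun W f hf => hd ⟨W, f, hf⟩, fun d' hd' => hu d' fun a => hd' a.2.1 a.2.2⟩

theorem embed_map_app {A B : E} (f : A ⟶ B) (X : Site G) (t : G X ⟶ A) :
    ((embed G hG).map f).hom.app (op X) t = t ≫ f := rfl

theorem embed_faithful : (embed G hG).Faithful :=
  ⟨fun {A B} f g h => gen_hom_ext hG fun c t =>
    ConcreteCategory.congr_hom (NatTrans.congr_app (congrArg (fun z => z.hom) h) (op (show Site G from c))) t⟩

theorem embed_full : (embed G hG).Full := by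
  refine ⟨fun {A B} η => ?_⟩
  obtain ⟨d, hd, -⟩ := Cov.existsUnique_desc (G := G) hG (cov_allMaps hG A)
    (fun p => η.hom.app (op (show Site G from p.1)) p.2) (fun c i j a b h => by
      have n1 := ConcreteCategory.congr_hom (η.hom.naturality (InducedCategory.homMk a : (show Site G from c) ⟶ i.1).op) i.2
      have n2 := ConcreteCategory.congr_hom (η.hom.naturality (InducedCategory.homMk b : (show Site G from c) ⟶ j.1).op) j.2
      exact n1.symm.trans ((congrArg (η.hom.app (op (show Site G from c))) h).trans n2))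
  exact ⟨d, ObjectProperty.hom_ext _ (NatTrans.ext (funext fun X =>
    ConcreteCategory.hom_ext _ _ fun t => hd ⟨X.unop, t⟩))⟩

section EssSurj

variable (F : Sheaf (topology G hG) (Type u))

omit hG in
/-- index of the covering coproduct -/
abbrev Idx {hG : (ObjectProperty.ofObj G).IsDetecting} (F : Sheaf (topology G hG) (Type u)) : Type u :=
  Σ c : Site G, F.obj.obj (op c)

omit hG in
/-- components -/
abbrev comp {hG : (ObjectProperty.ofObj G).IsDetecting} (F : Sheaf (topology G hG) (Type u)) : Idx G F → E :=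
  fun i => G i.1

/-- `x` is the value of `t` in `F` -/
def IsEv (X : Site G) (t : G X ⟶ ∐ comp G F) (x : F.obj.obj (op X)) : Prop :=
  ∀ (W : Site G) (g : W ⟶ X) (i : Idx G F) (s : G W ⟶ G i.1), s ≫ Sigma.ι (comp G F) i = g.hom ≫ t →
    F.obj.map g.op x = F.obj.map (InducedCategory.homMk s : W ⟶ i.1).op i.2

theorem isSheaf : Presieve.IsSheaf (topology G hG) F.obj :=
  (isSheaf_iff_isSheaf_of_type _ _).1 F.property

theorem sep {X : Site G} {S : Sieve X} (hS : S ∈ topology G hG X) {x y : F.obj.obj (op X)}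
    (h : ∀ (W : Site G) (g : W ⟶ X), S g → F.obj.map g.op x = F.obj.map g.op y) : x = y :=
  ((isSheaf G hG F) S hS).isSeparatedFor.ext fun W g hg => h W g hg

theorem eq_of_meet {W : Site G} {i j : Idx G F} {s : G W ⟶ G i.1} {s' : G W ⟶ G j.1}
    (h : s ≫ Sigma.ι (comp G F) i = s' ≫ Sigma.ι (comp G F) j) :
    F.obj.map (InducedCategory.homMk s : W ⟶ i.1).op i.2 = F.obj.map (InducedCategory.homMk s' : W ⟶ j.1).op j.2 := by
  by_cases hij : i = j
  · subst hij
    haveI := Mono.ι_of_coproductDisjoint (X := comp G F) i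
    rw [(cancel_mono _).1 h]
  · have hW : IsInitial (G W) := IsInitial.ofStrict
      (pullback.lift s s' h) (IsInitial.ofCoproductDisjoint (X := comp G F) hij)
    refine sep G hG F (S := ⊥) ?_ (fun V g hg => hg.elim)
    intro Z m _ _
    haveI : IsSplitEpi m := ⟨⟨hW.to Z, hW.hom_ext _ _⟩⟩
    exact isIso_of_mono_of_isSplitEpi m

/-- the sieve of maps landing in one component -/
def compSieve (X : Site G) (t : G X ⟶ ∐ comp G F) : Sieve X where
  arrows W g := ∃ (i : Idx G F) (s : G W ⟶ G i.1), s ≫ Sigma.ι (comp G F) i = g.hom ≫ t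
  downward_closed := by
    rintro W V g ⟨i, s, hs⟩ q
    refine ⟨i, q.hom ≫ s, ?_⟩
    show (q.hom ≫ s) ≫ _ = (q.hom ≫ g.hom) ≫ t
    rw [Category.assoc, Category.assoc, hs]

theorem compSieve_mem (X : Site G) (t : G X ⟶ ∐ comp G F) : compSieve G hG F X t ∈ topology G hG X :=
  cov_refine G hG (cov_ι (comp G F)) t _ fun _ _ i s h => ⟨i, s, h⟩

theorem existsUnique_ev (X : Site G) (t : G X ⟶ ∐ comp G F) : ∃! x, IsEv G hG F X t x := by
  let fam : Presieve.FamilyOfElements F.obj (compSieve G hG F X t).arrows := fun W g hg =>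
    F.obj.map (InducedCategory.homMk hg.choose_spec.choose : W ⟶ hg.choose.1).op hg.choose.2
  have hfam : fam.Compatible := by
    intro Y₁ Y₂ Z g₁ g₂ f₁ f₂ h₁ h₂ h
    rw [← Functor.map_comp_apply, ← Functor.map_comp_apply, ← op_comp, ← op_comp]
    refine eq_of_meet G hG F (s := g₁.hom ≫ h₁.choose_spec.choose) (s' := g₂.hom ≫ h₂.choose_spec.choose) ?_
    rw [Category.assoc, Category.assoc, h₁.choose_spec.choose_spec, h₂.choose_spec.choose_spec,
      ← Category.assoc, ← Category.assoc]
    exact congrArg (· ≫ t) (congrArg InducedCategory.Hom.hom h)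
  obtain ⟨x, hx, hu⟩ := (isSheaf G hG F) _ (compSieve_mem G hG F X t) fam hfam
  refine ⟨x, fun W g i s h => ?_, fun y hy => hu y fun W g hg => hy W g _ _ hg.choose_spec.choose_spec⟩
  have hg : (compSieve G hG F X t) g := ⟨i, s, h⟩
  rw [hx g hg]
  exact eq_of_meet G hG F (hg.choose_spec.choose_spec.trans h.symm)

/-- the evaluation -/
noncomputable def ev (X : Site G) (t : G X ⟶ ∐ comp G F) : F.obj.obj (op X) :=
  (existsUnique_ev G hG F X t).choose

theorem ev_eq {X : Site G} {t : G X ⟶ ∐ comp G F} {x : F.obj.obj (op X)} (h : IsEv G hG F X t x) :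
    ev G hG F X t = x :=
  ((existsUnique_ev G hG F X t).choose_spec.2 x h).symm

theorem ev_comp {X W : Site G} (t : G X ⟶ ∐ comp G F) (g : W ⟶ X) :
    ev G hG F W (g.hom ≫ t) = F.obj.map g.op (ev G hG F X t) := by
  refine ev_eq G hG F fun V r i s h => ?_
  rw [← Functor.map_comp_apply, ← op_comp]
  exact (existsUnique_ev G hG F X t).choose_spec.1 V (r ≫ g) i s (h.trans (Category.assoc _ _ _).symm)

theorem ev_ι {X : Site G} (x : F.obj.obj (op X)) :
    ev G hG F X (Sigma.ι (comp G F) ⟨X, x⟩) = x :=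
  ev_eq G hG F fun _ g _ _ h => (eq_of_meet G hG F (i := ⟨X, x⟩) (s := g.hom) h.symm)

theorem embed_essSurj : (embed G hG).EssSurj := by
  refine ⟨fun F => ?_⟩
  let K := Σ c : Site G, {ab : (G c ⟶ ∐ comp G F) × (G c ⟶ ∐ comp G F) // ev G hG F c ab.1 = ev G hG F c ab.2}
  obtain ⟨R, q, r, hqr, hr, hq⟩ := exists_image
    (Sigma.desc fun k : K => prod.lift k.2.1.1 k.2.1.2 : (∐ fun k : K => G k.1) ⟶ (∐ comp G F) ⨯ (∐ comp G F))
  have hcov : Cov fun k : K => Sigma.ι (fun k : K => G k.1) k ≫ q := by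
    refine (cov_good hq).trans _ fun _ => ⟨_, _, _, cov_ι _, fun k => ⟨k, 𝟙 _, Category.id_comp _⟩⟩
  have hk : ∀ k : K, (Sigma.ι (fun k : K => G k.1) k ≫ q) ≫ r = prod.lift k.2.1.1 k.2.1.2 := fun k => by
    rw [Category.assoc, hqr, Sigma.ι_desc]
  have hrel : ∀ (c : Site G) (a b : G c ⟶ ∐ comp G F),
      (∃ l, l ≫ r = prod.lift a b) ↔ ev G hG F c a = ev G hG F c b := by
    intro c a b
    constructor
    · rintro ⟨l, hl⟩
      refine sep G hG F (S := ⟨fun W g => F.obj.map g.op (ev G hG F c a) = F.obj.map g.op (ev G hG F c b),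
        fun {W V g} h p => by rw [op_comp, Functor.map_comp_apply, Functor.map_comp_apply, h]⟩) ?_ fun _ _ h => h
      refine cov_refine G hG hcov l _ fun W g k s h => ?_
      have h1 : s ≫ prod.lift k.2.1.1 k.2.1.2 = g.hom ≫ prod.lift a b := by
        rw [← hk, ← hl, ← Category.assoc, h, Category.assoc]
      have ha : g.hom ≫ a = (InducedCategory.homMk s : W ⟶ k.1).hom ≫ k.2.1.1 := by
        have := congrArg (· ≫ prod.fst) h1.symm
        simp only [Category.assoc, prod.lift_fst] at this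
        exact this
      have hb : g.hom ≫ b = (InducedCategory.homMk s : W ⟶ k.1).hom ≫ k.2.1.2 := by
        have := congrArg (· ≫ prod.snd) h1.symm
        simp only [Category.assoc, prod.lift_snd] at this
        exact this
      show F.obj.map g.op _ = F.obj.map g.op _
      rw [← ev_comp, ← ev_comp, ha, hb, ev_comp, ev_comp, k.2.2]
    · intro h
      exact ⟨_, hk ⟨c, (a, b), h⟩⟩
  have hpt : ∀ (T : E) (a b : T ⟶ ∐ comp G F), (∃ f : T ⟶ R, f ≫ r ≫ prod.fst = a ∧ f ≫ r ≫ prod.snd = b) ↔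
      ∀ (c : J₀) (g : G c ⟶ T), ev G hG F c (g ≫ a) = ev G hG F c (g ≫ b) := by
    intro T a b
    constructor
    · rintro ⟨f, rfl, rfl⟩ c g
      refine (hrel c _ _).1 ⟨g ≫ f, ?_⟩
      apply prod.hom_ext <;> simp only [Category.assoc, prod.lift_fst, prod.lift_snd]
    · intro h
      obtain ⟨f, hf⟩ := factors_of_gen hG r (prod.lift a b) fun c g => by
        rw [prod.comp_lift]; exact (hrel c _ _).2 (h c g)
      exact ⟨f, by rw [← Category.assoc, hf, prod.lift_fst], by rw [← Category.assoc, hf, prod.lift_snd]⟩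
  have he : SGA4.IsEquivRel (r ≫ prod.fst) (r ≫ prod.snd) := fun T => by
    refine ⟨fun f f' h => ?_, ?_⟩
    · haveI := hr
      rw [← cancel_mono r]
      apply prod.hom_ext
      · simpa using congrArg Prod.fst h
      · simpa using congrArg Prod.snd h
    · exact ⟨fun a => (hpt T a a).2 fun _ _ => rfl,
        fun h => (hpt T _ _).2 fun c g => ((hpt T _ _).1 h c g).symm,
        fun h h' => (hpt T _ _).2 fun c g => ((hpt T _ _).1 h c g).trans ((hpt T _ _).1 h' c g)⟩
  obtain ⟨B, π, hpb, -, hπ⟩ := exists_quotient he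
  have hπeq : ∀ (c : Site G) (a b : G c ⟶ ∐ comp G F), a ≫ π = b ≫ π ↔ ev G hG F c a = ev G hG F c b := by
    intro c a b
    constructor
    · intro h
      refine (hrel c a b).1 ⟨hpb.lift a b h, ?_⟩
      apply prod.hom_ext
      · rw [prod.lift_fst, Category.assoc]; exact hpb.lift_fst a b h
      · rw [prod.lift_snd, Category.assoc]; exact hpb.lift_snd a b h
    · intro h
      obtain ⟨l, hl⟩ := (hrel c a b).2 h
      have ha : l ≫ r ≫ prod.fst = a := by rw [← Category.assoc, hl, prod.lift_fst]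
      have hb : l ≫ r ≫ prod.snd = b := by rw [← Category.assoc, hl, prod.lift_snd]
      rw [← ha, ← hb, Category.assoc l, Category.assoc l, hpb.w]
  have hcovB : Cov fun i : Idx G F => Sigma.ι (comp G F) i ≫ π :=
    (cov_good hπ).trans _ fun _ => ⟨_, _, _, cov_ι _, fun i => ⟨i, 𝟙 _, Category.id_comp _⟩⟩
  let θ : F.obj ⟶ ((embed G hG).obj B).obj :=
    { app := fun X => ↾fun x => Sigma.ι (comp G F) ⟨X.unop, x⟩ ≫ π
      naturality := fun X Y g => by
        ext x
        show Sigma.ι (comp G F) ⟨Y.unop, F.obj.map g x⟩ ≫ π =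
          g.unop.hom ≫ Sigma.ι (comp G F) ⟨X.unop, x⟩ ≫ π
        rw [← Category.assoc, hπeq, ev_ι, ev_comp, ev_ι]
        rfl }
  have hbij : ∀ X, Function.Bijective (θ.app X) := by
    intro X
    refine ⟨fun x y h => ?_, fun b => ?_⟩
    · simpa [ev_ι] using (hπeq X.unop _ _).1 h
    · let S : Sieve X.unop :=
        ⟨fun W g => ∃ i s, s ≫ (Sigma.ι (comp G F) i ≫ π) = g.hom ≫ b, by
          rintro W V g ⟨i, s, hs⟩ p
          exact ⟨i, p.hom ≫ s, by rw [Category.assoc, hs]; exact (Category.assoc _ _ _).symm⟩⟩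
      have hS : S ∈ topology G hG X.unop := cov_refine G hG hcovB b S fun W g i s h => ⟨i, s, h⟩
      let fam : Presieve.FamilyOfElements F.obj S.arrows := fun W g hg =>
        F.obj.map (InducedCategory.homMk hg.choose_spec.choose : W ⟶ hg.choose.1).op hg.choose.2
      have hfam : ∀ W (g : W ⟶ X.unop) (hg : S g), θ.app (op W) (fam g hg) = g.hom ≫ b := by
        intro W g hg
        refine ((ConcreteCategory.congr_hom (θ.naturality _) hg.choose.2)).trans ?_
        exact hg.choose_spec.choose_spec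
      have inj : ∀ W : Site G, Function.Injective (θ.app (op W)) := fun W x y h => by
        simpa [ev_ι] using (hπeq W _ _).1 h
      have hc : fam.Compatible := by
        intro Y₁ Y₂ Z g₁ g₂ f₁ f₂ h₁ h₂ h
        apply inj
        refine ((ConcreteCategory.congr_hom (θ.naturality g₁.op) (fam f₁ h₁))).trans ?_
        refine Eq.trans ?_ ((ConcreteCategory.congr_hom (θ.naturality g₂.op) (fam f₂ h₂))).symm
        show g₁.hom ≫ θ.app (op Y₁) (fam f₁ h₁) = g₂.hom ≫ θ.app (op Y₂) (fam f₂ h₂)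
        rw [hfam, hfam, ← Category.assoc, ← Category.assoc]
        exact congrArg (· ≫ b) (congrArg InducedCategory.Hom.hom h)
      obtain ⟨x, hx, -⟩ := (isSheaf G hG F) S hS fam hc
      refine ⟨x, Cov.hom_ext hS fun a => ?_⟩
      show a.2.1.hom ≫ θ.app X x = a.2.1.hom ≫ b
      rw [← hfam a.1 a.2.1 a.2.2, ← hx a.2.1 a.2.2]
      exact (ConcreteCategory.congr_hom (θ.naturality a.2.1.op) x).symm
  haveI : ∀ X, IsIso (θ.app X) := fun X => (isIso_iff_bijective _).2 (hbij X)
  haveI : IsIso θ := NatIso.isIso_of_isIso_app θ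
  exact ⟨B, ⟨(fullyFaithfulSheafToPresheaf _ _).preimageIso (asIso θ).symm⟩⟩

end EssSurj

omit hG in
theorem isTopos_of_detecting {J₀ : Type u} {G : J₀ → E} (hG : (ObjectProperty.ofObj G).IsDetecting) :
    SGA4.IsTopos.{v, u} E := by
  haveI := embed_full G hG
  haveI := embed_faithful G hG
  haveI := embed_essSurj G hG
  haveI : (embed G hG).IsEquivalence := { }
  exact ⟨Site G, inferInstance, topology G hG, ⟨(embed G hG).asEquivalence⟩⟩

omit hG in
theorem isTopos (hd : ∃ P : ObjectProperty E, ObjectProperty.Small.{u} P ∧ P.IsDetecting) :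
    SGA4.IsTopos.{v, u} E := by
  obtain ⟨P, hP, hdet⟩ := hd
  haveI : Small.{u} (Subtype P) := hP
  refine isTopos_of_detecting (G := fun i : Shrink.{u} (Subtype P) => ((equivShrink _).symm i).1) ?_
  intro A B f h
  refine hdet f fun X hX g => h X ?_ g
  have h1 : X = ((equivShrink _).symm (equivShrink _ (⟨X, hX⟩ : Subtype P))).1 := by
    rw [Equiv.symm_apply_apply]
  rw [h1]
  exact ObjectProperty.ofObj_apply _ _

end Groth.Agent.SubTopos.Giraud
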