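import Groth.Agent.SubTopos.CanTopos

/-!
Sheaves for the canonical topology of a topos of sheaves are the functors preserving small limits.
-/

universe w v u

set_option synthInstance.maxHeartbeats 20000
set_option maxHeartbeats 400000

open CategoryTheory CategoryTheory.Limits Opposite

namespace Groth.Agent.SubTopos.CanTopos

open Giraud

variable {C : Type u} [SmallCategory C] {J : GrothendieckTopology C}

theorem mem_canonical {X : Sheaf J (Type u)} (S : Sieve X) {ι : Type u} {G : ι → Sheaf J (Type u)}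
    {g : ∀ i, G i ⟶ X} (h : Cov g) (hS : ∀ i, S (g i)) :
    S ∈ Sheaf.canonicalTopology (Sheaf J (Type u)) X := by
  refine Sheaf.mem_finestTopology_of_forall_isSheafFor ?_
  rintro _ ⟨Z, rfl⟩ X' f x hx
  have hg' : Cov fun i => pullback.fst f (g i) := h.pullback f
  have hmem : ∀ i, (S.pullback f).arrows (pullback.fst f (g i)) := fun i => by
    show S.arrows (pullback.fst f (g i) ≫ f)
    rw [pullback.condition]
    exact S.downward_closed (hS i) _
  obtain ⟨d, hd, hu⟩ := glue hg' (fun i => x _ (hmem i)) fun i j =>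
    hx _ _ (hmem i) (hmem j) pullback.condition
  refine ⟨d, fun Y r hr => ?_, fun d' hd' => hu d' fun i => hd' _ (hmem i)⟩
  refine (hg'.pullback r).hom_ext fun i => ?_
  show pullback.fst r (pullback.fst f (g i)) ≫ r ≫ d = pullback.fst r (pullback.fst f (g i)) ≫ x r hr
  rw [← Category.assoc, pullback.condition, Category.assoc, hd i]
  exact (hx _ _ hr (hmem i) pullback.condition).symm

theorem cov_of_canonical {X : Sheaf J (Type u)} {S : Sieve X}
    (hS : S ∈ Sheaf.canonicalTopology (Sheaf J (Type u)) X) :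
    Cov fun p : Σ c : C, {m : ay J c ⟶ X // S m} => p.2.1 := by
  refine cov_of_epiFamily fun Z a b h => ?_
  refine (Sheaf.isSheaf_yoneda_obj Z _ hS).isSeparatedFor.ext fun Y f hf => ?_
  exact gen_hom_ext (detecting J) fun c m => by
    show m ≫ f ≫ a = m ≫ f ≫ b
    rw [← Category.assoc, ← Category.assoc]
    exact h ⟨c, m ≫ f, S.downward_closed hf m⟩

section types

variable (P : (Sheaf J (Type u))ᵒᵖ ⥤ Type w)

/-- restriction along `a` -/
abbrev res {X Y : Sheaf J (Type u)} (a : X ⟶ Y) : P.obj (op Y) → P.obj (op X) := P.map a.op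

theorem res_comp {X Y Z : Sheaf J (Type u)} (a : X ⟶ Y) (b : Y ⟶ Z) (z : P.obj (op Z)) :
    res P (a ≫ b) z = res P a (res P b z) := Functor.map_comp_apply P b.op a.op z

theorem res_id {X : Sheaf J (Type u)} (z : P.obj (op X)) : res P (𝟙 X) z = z := by
  simp [res]

variable {P}

theorem inj_of_isSheaf (hP : Presieve.IsSheaf (Sheaf.canonicalTopology _) P) {X : Sheaf J (Type u)} {ι : Type u}
    {G : ι → Sheaf J (Type u)} {g : ∀ i, G i ⟶ X} (h : Cov g) {a b : P.obj (op X)}
    (e : ∀ i, res P (g i) a = res P (g i) b) : a = b := by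
  refine (hP _ (mem_canonical (Sieve.ofArrows G g) h fun i => Sieve.ofArrows_mk _ _ i)).isSeparatedFor.ext ?_
  rintro W _ ⟨_, t, _, ⟨i⟩, rfl⟩
  exact (res_comp P t (g i) a).trans ((congrArg _ (e i)).trans (res_comp P t (g i) b).symm)

theorem glue_of_isSheaf (hP : Presieve.IsSheaf (Sheaf.canonicalTopology _) P) {X : Sheaf J (Type u)} {ι : Type u}
    {G : ι → Sheaf J (Type u)} {g : ∀ i, G i ⟶ X} (h : Cov g) (x : ∀ i, P.obj (op (G i)))
    (hx : ∀ i j, res P (pullback.fst (g i) (g j)) (x i) = res P (pullback.snd (g i) (g j)) (x j)) :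
    ∃ a, ∀ i, res P (g i) a = x i := by
  have h1 := hP _ (mem_canonical (Sieve.generate (Presieve.ofArrows G g)) h fun i => Sieve.ofArrows_mk _ _ i)
  rw [← Presieve.isSheafFor_iff_generate, Presieve.isSheafFor_arrows_iff] at h1
  refine (h1 x fun i j W a b hab => ?_).exists
  show res P a (x i) = res P b (x j)
  rw [← pullback.lift_fst a b hab, res_comp, hx, ← res_comp, pullback.lift_snd]

theorem preservesLimits_of_isSheaf (hP : Presieve.IsSheaf (Sheaf.canonicalTopology _) P) :
    PreservesLimitsOfSize.{u, u} P := by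
  refine ⟨fun {I} _ => ⟨fun {K} => ⟨fun {c} hc => (Types.isLimit_iff _).2 fun s hs => ?_⟩⟩⟩
  let X := c.pt.unop
  let Y : I → Sheaf J (Type u) := fun i => (K.obj i).unop
  let ι : ∀ i, Y i ⟶ X := fun i => (c.π.app i).unop
  have hι : Cov ι := cov_of_epiFamily fun Z a b h =>
    Quiver.Hom.op_inj (hc.hom_ext fun i => Quiver.Hom.unop_inj (h i))
  have hι' := cov_ι Y
  obtain ⟨y, hy⟩ := glue_of_isSheaf hP hι' s fun i j => by
    rcases eq_or_ne i j with rfl | hij
    · rw [fst_eq_snd_of_mono_eq (Sigma.ι Y i)]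
    · have hI : IsInitial (pullback (Sigma.ι Y i) (Sigma.ι Y j)) :=
        IsInitial.ofCoproductDisjointOfIsColimitOfIsLimit hij (coproductIsCoproduct Y) (pullback.isLimit _ _)
      exact inj_of_isSheaf hP (ι := PEmpty.{u + 1}) (G := fun e => e.elim) (g := fun e => e.elim)
        (cov_of_epiFamily fun Z a b _ => hI.hom_ext a b) fun e => e.elim
  -- the relation "same restriction of `y`"
  let fam : (Σ d : C, {m : ay J d ⟶ (∐ Y) ⨯ (∐ Y) // res P (m ≫ prod.fst) y = res P (m ≫ prod.snd) y}) →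
      Sheaf J (Type u) := fun p => ay J p.1
  let desc : ∐ fam ⟶ (∐ Y) ⨯ (∐ Y) := Sigma.desc fun p => p.2.1
  obtain ⟨R, π, m, hm, hmono, hπ⟩ := exists_image desc
  have hR : res P (m ≫ prod.fst) y = res P (m ≫ prod.snd) y := by
    refine inj_of_isSheaf hP ((cov_good hπ).trans (fun p => Sigma.ι fam p ≫ π) fun _ =>
      ⟨_, _, _, cov_ι fam, fun p => ⟨p, 𝟙 _, Category.id_comp _⟩⟩) fun p => ?_
    rw [← res_comp, ← res_comp, Category.assoc, ← Category.assoc π, hm, Category.assoc, ← Category.assoc π, hm]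
    simp only [desc, Sigma.ι_desc_assoc]
    exact p.2.2
  have hiff : ∀ {T : Sheaf J (Type u)} (a b : T ⟶ ∐ Y),
      (∃ r, r ≫ m ≫ prod.fst = a ∧ r ≫ m ≫ prod.snd = b) ↔ res P a y = res P b y := by
    intro T a b
    constructor
    · rintro ⟨r, rfl, rfl⟩
      rw [res_comp, hR, ← res_comp]
    · intro e
      obtain ⟨l, hl⟩ := factors_of_gen (detecting J) m (prod.lift a b) fun d t => by
        have ht : res P ((t ≫ prod.lift a b) ≫ prod.fst) y = res P ((t ≫ prod.lift a b) ≫ prod.snd) y := by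
          rw [Category.assoc, Category.assoc, prod.lift_fst, prod.lift_snd, res_comp, e, ← res_comp]
        exact ⟨Sigma.ι fam ⟨d, t ≫ prod.lift a b, ht⟩ ≫ π, by
          rw [Category.assoc, hm]; simp only [desc, Sigma.ι_desc]⟩
      exact ⟨l, by rw [← Category.assoc, hl, prod.lift_fst], by rw [← Category.assoc, hl, prod.lift_snd]⟩
  have hRel : SGA4.IsEquivRel (m ≫ prod.fst) (m ≫ prod.snd) := fun T => by
    refine ⟨fun a b h => ?_, fun a => (hiff a a).2 rfl, fun h => (hiff _ _).2 ((hiff _ _).1 h).symm,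
      fun h h' => (hiff _ _).2 (((hiff _ _).1 h).trans ((hiff _ _).1 h'))⟩
    refine (cancel_mono m).1 (prod.hom_ext ?_ ?_)
    · simpa only [Category.assoc] using congrArg Prod.fst h
    · simpa only [Category.assoc] using congrArg Prod.snd h
  obtain ⟨B, ρ, hpb, -, -⟩ := exists_quotient hRel
  have hw : ∀ {i j : I} (h : i ⟶ j), (K.map h).unop ≫ Sigma.ι Y i ≫ ρ = Sigma.ι Y j ≫ ρ := by
    intro i j h
    obtain ⟨r, hr₁, hr₂⟩ := (hiff ((K.map h).unop ≫ Sigma.ι Y i) (Sigma.ι Y j)).2 (by
      rw [res_comp, hy, hy]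
      exact hs h)
    rw [← Category.assoc, ← hr₁, Category.assoc, hpb.w, ← Category.assoc, hr₂]
  let co : Cone K :=
    { pt := op B
      π := { app := fun i => (Sigma.ι Y i ≫ ρ).op
             naturality := fun i j h => Quiver.Hom.unop_inj (by
               show (Sigma.ι Y j ≫ ρ) ≫ 𝟙 B = (K.map h).unop ≫ Sigma.ι Y i ≫ ρ
               rw [Category.comp_id, hw]) } }
  let d : X ⟶ B := (hc.lift co).unop
  have hd : ∀ i, ι i ≫ d = Sigma.ι Y i ≫ ρ := fun i => congrArg Quiver.Hom.unop (hc.fac co i)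
  have hq : Sigma.desc ι ≫ d = ρ := Sigma.hom_ext _ _ fun i => by simp [hd]
  obtain ⟨x, hx⟩ := glue_of_isSheaf hP (cov_good hι.good) (fun _ => y) fun _ _ =>
    (hiff _ _).1 ⟨hpb.lift _ _ (by
      rw [← hq, ← Category.assoc, ← Category.assoc, pullback.condition]), hpb.lift_fst _ _ _, hpb.lift_snd _ _ _⟩
  refine ⟨x, fun i => ?_, fun x' hx' => inj_of_isSheaf hP hι fun i => ?_⟩
  · show res P (ι i) x = s i
    rw [← hy i, ← hx ⟨⟩, ← res_comp, Sigma.ι_desc]
  · show res P (ι i) x' = res P (ι i) x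
    refine (hx' i).trans ?_
    rw [← hy i, ← hx ⟨⟩, ← res_comp, Sigma.ι_desc]

variable [PreservesLimitsOfSize.{u, u} P]

theorem sigma_ext {ι : Type u} (G : ι → Sheaf J (Type u)) {a b : P.obj (op (∐ G))}
    (e : ∀ i, res P (Sigma.ι G i) a = res P (Sigma.ι G i) b) : a = b :=
  Concrete.isLimit_ext _ (isLimitOfPreserves P (coproductIsCoproduct G).op) _ _ fun ⟨⟨i⟩⟩ => e i

theorem sigma_exists {ι : Type u} (G : ι → Sheaf J (Type u)) (x : ∀ i, P.obj (op (G i))) :
    ∃ y, ∀ i, res P (Sigma.ι G i) y = x i := by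
  obtain ⟨y, hy, -⟩ := (Types.isLimit_iff _).1 ⟨isLimitOfPreserves P (coproductIsCoproduct G).op⟩
    (fun i => x i.unop.as) (by
      rintro ⟨⟨i⟩⟩ ⟨⟨j⟩⟩ h
      obtain rfl : i = j := (Discrete.eq_of_hom h.unop).symm
      rw [show h = 𝟙 _ from Subsingleton.elim _ _]
      exact res_id P (x i))
  exact ⟨y, fun i => hy ⟨⟨i⟩⟩⟩

theorem epi_inj {A B : Sheaf J (Type u)} (q : A ⟶ B) [Epi q] : Function.Injective (res P q) := by
  haveI : PreservesLimitsOfSize.{0, 0} P := preservesLimitsOfSize_shrink P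
  exact (mono_iff_injective _).1 (inferInstanceAs (Mono (P.map q.op)))

theorem inj_of_preserves {X : Sheaf J (Type u)} {ι : Type u}
    {G : ι → Sheaf J (Type u)} {g : ∀ i, G i ⟶ X} (h : Cov g) {a b : P.obj (op X)}
    (e : ∀ i, res P (g i) a = res P (g i) b) : a = b := by
  haveI := h.good.epi
  refine epi_inj (Sigma.desc g) (sigma_ext G fun i => ?_)
  rw [← res_comp, ← res_comp, Sigma.ι_desc]
  exact e i

theorem isSheaf_of_preservesLimits : Presieve.IsSheaf (Sheaf.canonicalTopology _) P := by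
  intro X S hS x hx
  have hg := cov_of_canonical hS
  let G : (Σ c : C, {m : ay J c ⟶ X // S m}) → Sheaf J (Type u) := fun p => ay J p.1
  obtain ⟨y, hy⟩ := sigma_exists (P := P) G fun p => x p.2.1 p.2.2
  let q : (∐ G) ⟶ X := Sigma.desc fun p => p.2.1
  haveI := hg.good.effectiveEpi
  have hk : res P (pullback.fst q q) y = res P (pullback.snd q q) y := by
    refine inj_of_preserves ((cov_ι G).pullback (pullback.fst q q)) fun i => ?_
    refine inj_of_preserves ((cov_ι G).pullback
      (pullback.fst (pullback.fst q q) (Sigma.ι G i) ≫ pullback.snd q q)) fun j => ?_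
    simp only [← res_comp, Category.assoc]
    let T := pullback.fst (pullback.fst (pullback.fst q q) (Sigma.ι G i) ≫ pullback.snd q q) (Sigma.ι G j)
    let a := T ≫ pullback.snd (pullback.fst q q) (Sigma.ι G i)
    let b := pullback.snd (pullback.fst (pullback.fst q q) (Sigma.ι G i) ≫ pullback.snd q q) (Sigma.ι G j)
    have ha : T ≫ pullback.fst (pullback.fst q q) (Sigma.ι G i) ≫ pullback.fst q q = a ≫ Sigma.ι G i := by
      simp only [a, Category.assoc, pullback.condition]
    have hb : T ≫ pullback.fst (pullback.fst q q) (Sigma.ι G i) ≫ pullback.snd q q = b ≫ Sigma.ι G j :=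
      pullback.condition
    have hab : a ≫ i.2.1 = b ≫ j.2.1 := by
      rw [← Sigma.ι_desc (fun p : (Σ c : C, {m : ay J c ⟶ X // S m}) => p.2.1) i,
        ← Sigma.ι_desc (fun p : (Σ c : C, {m : ay J c ⟶ X // S m}) => p.2.1) j,
        ← Category.assoc, ← Category.assoc, ← ha, ← hb, Category.assoc, Category.assoc, Category.assoc,
        Category.assoc]
      exact congrArg (T ≫ pullback.fst _ _ ≫ ·) pullback.condition
    rw [ha, hb, res_comp, res_comp _ b, hy, hy]
    exact hx _ _ i.2.2 j.2.2 hab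
  have hcol := isColimitCoforkOfEffectiveEpi q (pullback.cone q q) (pullback.isLimit q q)
  haveI : PreservesLimitsOfSize.{0, 0} P := preservesLimitsOfSize_shrink P
  obtain ⟨t, ht, -⟩ := (Types.type_equalizer_iff_unique
    (g := P.map (pullback.fst q q).op) (h := P.map (pullback.snd q q).op) (f := P.map q.op) (w := _)).1
    ⟨isLimitForkMapOfIsLimit P _ (Cofork.isColimitOfπEquivIsLimitOp q q (pullback.condition (f := q) (g := q)) (congrArg Quiver.Hom.op (pullback.condition (f := q) (g := q))) rfl hcol)⟩ y hk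
  have htp : ∀ p : (Σ c : C, {m : ay J c ⟶ X // S m}), res P p.2.1 t = x p.2.1 p.2.2 := fun p => by
    rw [← hy p, show p.2.1 = Sigma.ι G p ≫ q from (Sigma.ι_desc (fun p : (Σ c : C, {m : ay J c ⟶ X // S m}) => p.2.1) p).symm, res_comp]
    exact congrArg _ ht
  refine ⟨t, fun Y f hf => ?_, fun t' ht' => inj_of_preserves hg fun p =>
    (ht' _ p.2.2).trans (htp p).symm⟩
  refine inj_of_preserves (cov_allMaps (detecting J) Y) fun r => ?_
  refine (res_comp P r.2 f t).symm.trans ((htp ⟨r.1, r.2 ≫ f, S.downward_closed hf r.2⟩).trans ?_)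
  have := hx (𝟙 _) r.2 (S.downward_closed hf r.2) hf (Category.id_comp _)
  exact (res_id P _).symm.trans this

end types

theorem isSheaf_iff {E' : Type v} [Category.{w} E'] (F : (Sheaf J (Type u))ᵒᵖ ⥤ E') :
    Presheaf.IsSheaf (Sheaf.canonicalTopology (Sheaf J (Type u))) F ↔ PreservesLimitsOfSize.{u, u} F := by
  constructor
  · intro h
    refine ⟨fun {I} _ => ⟨fun {K} => ⟨fun {c} hc => ⟨coyonedaJointlyReflectsLimits _ _ fun e => ?_⟩⟩⟩⟩
    haveI := preservesLimits_of_isSheaf (h e.unop)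
    exact isLimitOfPreserves (F ⋙ coyoneda.obj e) hc
  · intro _ e
    exact isSheaf_of_preservesLimits

end Groth.Agent.SubTopos.CanTopos
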