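import Groth.Agent.SubTopos.CanTopos

/-!
A left exact functor between sheaf topoi preserving small epimorphic families is a left adjoint.
-/

universe u

set_option synthInstance.maxHeartbeats 20000
set_option maxHeartbeats 400000

open CategoryTheory CategoryTheory.Limits Opposite

namespace Groth.Agent.SubTopos.CanTopos

open Giraud

variable {C D : Type u} [SmallCategory C] [SmallCategory D] {J : GrothendieckTopology C}
  {K : GrothendieckTopology D} (f : Sheaf J (Type u) ⥤ Sheaf K (Type u)) [PreservesFiniteLimits f]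
  (hf : SGA4.PreservesEpiFamilies.{u + 1, u + 1, u} f)

include hf

theorem map_cov {ι : Type u} {G : ι → Sheaf J (Type u)} {H : Sheaf J (Type u)} {g : ∀ i, G i ⟶ H}
    (h : Cov g) : Cov fun i => f.map (g i) :=
  cov_of_epiFamily (hf ι H G g (epiFamily_of_cov h))

/-- descent for the images of a covering family -/
theorem glue_map {ι : Type u} {G : ι → Sheaf J (Type u)} {H : Sheaf J (Type u)} {g : ∀ i, G i ⟶ H}
    (h : Cov g) {Z : Sheaf K (Type u)} (z : ∀ i, f.obj (G i) ⟶ Z)
    (hz : ∀ i j, f.map (pullback.fst (g i) (g j)) ≫ z i = f.map (pullback.snd (g i) (g j)) ≫ z j) :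
    ∃! d, ∀ i, f.map (g i) ≫ d = z i := by
  refine glue (map_cov f hf h) z fun i j => ?_
  rw [← cancel_epi ((IsPullback.of_hasPullback (g i) (g j)).map f).isoPullback.hom,
    IsPullback.isoPullback_hom_fst_assoc, IsPullback.isoPullback_hom_snd_assoc]
  exact hz i j

omit hf [PreservesFiniteLimits f] in
/-- the presheaf `c ↦ (f (ay c) ⟶ G)` -/
noncomputable def rightObj (G : Sheaf K (Type u)) : Cᵒᵖ ⥤ Type u :=
  (yoneda ⋙ presheafToSheaf J (Type u) ⋙ f).op ⋙ yoneda.obj G

theorem isSheaf_rightObj (G : Sheaf K (Type u)) : Presieve.IsSheaf J (rightObj f G) := by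
  intro X S hS x hx
  let g : ∀ p : (Σ Y : C, {h : Y ⟶ X // S h}), ay J p.1 ⟶ ay J X := fun p => am p.2.1
  have hg : Cov g := cov_sieve hS
  have key : ∀ p q, f.map (pullback.fst (g p) (g q)) ≫ x p.2.1 p.2.2 =
      f.map (pullback.snd (g p) (g q)) ≫ x q.2.1 q.2.2 := by
    intro p q
    let P := pullback (yoneda.map p.2.1) (yoneda.map q.2.1)
    have hP := (IsPullback.of_hasPullback (yoneda.map p.2.1) (yoneda.map q.2.1)).map
      (presheafToSheaf J (Type u))
    rw [← cancel_epi (f.map hP.isoPullback.hom), ← Functor.map_comp_assoc, ← Functor.map_comp_assoc,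
      IsPullback.isoPullback_hom_fst, IsPullback.isoPullback_hom_snd]
    refine (map_cov f hf (cov_of_epiFamily (epi_elements P))).hom_ext fun w => ?_
    rw [← Functor.map_comp_assoc, ← Functor.map_comp_assoc, ← Functor.map_comp, ← Functor.map_comp]
    have e₁ : ∀ {Y : C} (t : yoneda.obj w.1 ⟶ yoneda.obj Y), t = yoneda.map (yonedaEquiv t) := fun t => by
      obtain ⟨h, rfl⟩ := yoneda.map_surjective t
      rw [yonedaEquiv_yoneda_map]
    let k₁ := yonedaEquiv (yonedaEquiv.symm w.2 ≫ pullback.fst (yoneda.map p.2.1) (yoneda.map q.2.1))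
    let k₂ := yonedaEquiv (yonedaEquiv.symm w.2 ≫ pullback.snd (yoneda.map p.2.1) (yoneda.map q.2.1))
    have hk : k₁ ≫ p.2.1 = k₂ ≫ q.2.1 := by
      refine yoneda.map_injective ?_
      rw [Functor.map_comp, Functor.map_comp, ← e₁, ← e₁, Category.assoc, Category.assoc, pullback.condition]
    rw [e₁ (yonedaEquiv.symm w.2 ≫ pullback.fst _ _), e₁ (yonedaEquiv.symm w.2 ≫ pullback.snd _ _)]
    exact hx k₁ k₂ p.2.2 q.2.2 hk
  obtain ⟨d, hd, hu⟩ := glue_map f hf hg (fun p => x p.2.1 p.2.2) key
  exact ⟨d, fun Y h hh => hd ⟨Y, h, hh⟩, fun d' hd' => hu d' fun p => hd' p.2.1 p.2.2⟩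

/-- the right adjoint -/
noncomputable def rightSheaf (G : Sheaf K (Type u)) : Sheaf J (Type u) :=
  ⟨rightObj f G, (isSheaf_iff_isSheaf_of_type _ _).2 (isSheaf_rightObj f hf G)⟩

/-- transposition -/
noncomputable def tr (G : Sheaf K (Type u)) {H : Sheaf J (Type u)} (φ : f.obj H ⟶ G) : H ⟶ rightSheaf f hf G where
  hom :=
    { app := fun c => TypeCat.ofHom fun x => f.map ((rp J c.unop H).symm x) ≫ φ
      naturality := fun c c' h => by
        ext x
        show f.map ((rp J c'.unop H).symm (H.obj.map h x)) ≫ φ = f.map (am h.unop) ≫ f.map ((rp J c.unop H).symm x) ≫ φ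
        rw [← Functor.map_comp_assoc]
        congr 2
        refine (rp J c'.unop H).injective ?_
        rw [rp_map, Equiv.apply_symm_apply, Equiv.apply_symm_apply]
        rfl }

theorem tr_natural (G : Sheaf K (Type u)) {H H' : Sheaf J (Type u)} (h : H' ⟶ H) (φ : f.obj H ⟶ G) :
    tr f hf G (f.map h ≫ φ) = h ≫ tr f hf G φ := by
  ext c x
  show f.map ((rp J c.unop H').symm x) ≫ f.map h ≫ φ = f.map ((rp J c.unop H).symm (h.hom.app c x)) ≫ φ
  rw [← Functor.map_comp_assoc]
  congr 2
  refine (rp J c.unop H).injective ?_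
  rw [rp_comp, Equiv.apply_symm_apply, Equiv.apply_symm_apply]

theorem tr_ay_bijective (G : Sheaf K (Type u)) (c : C) : Function.Bijective (tr f hf G (H := ay J c)) := by
  refine (Function.Bijective.of_comp_iff' (rp J c (rightSheaf f hf G)).bijective _).1 ?_
  have : ⇑(rp J c (rightSheaf f hf G)) ∘ tr f hf G (H := ay J c) = id := by
    funext φ
    have e := rp_comp (rp J c (ay J c) |>.symm (rp J c (ay J c) (𝟙 _))) (tr f hf G φ)
    rw [Equiv.symm_apply_apply, Category.id_comp] at e
    refine e.trans ?_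
    show f.map ((rp J c (ay J c)).symm (rp J c (ay J c) (𝟙 _))) ≫ φ = φ
    rw [Equiv.symm_apply_apply, f.map_id, Category.id_comp]
  rw [this]
  exact Function.bijective_id

theorem tr_bijective (G : Sheaf K (Type u)) (H : Sheaf J (Type u)) :
    Function.Bijective (tr f hf G (H := H)) := by
  constructor
  · intro φ ψ h
    refine (map_cov f hf (cov_sections H)).hom_ext fun p => ?_
    refine (tr_ay_bijective f hf G p.1).1 ?_
    rw [tr_natural, tr_natural, h]
  · intro ψ
    have hc := cov_sections H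
    let z : ∀ p : (Σ c : C, H.obj.obj (op c)), f.obj (ay J p.1) ⟶ G := fun p =>
      ((tr_ay_bijective f hf G p.1).2 ((rp J p.1 H).symm p.2 ≫ ψ)).choose
    have hz : ∀ p, tr f hf G (z p) = (rp J p.1 H).symm p.2 ≫ ψ := fun p =>
      ((tr_ay_bijective f hf G p.1).2 ((rp J p.1 H).symm p.2 ≫ ψ)).choose_spec
    obtain ⟨φ, hφ, -⟩ := glue_map f hf hc z fun p q => by
      refine (map_cov f hf (cov_sections _)).hom_ext fun w => ?_
      refine (tr_ay_bijective f hf G w.1).1 ?_
      rw [← Functor.map_comp_assoc, ← Functor.map_comp_assoc, tr_natural, tr_natural, hz, hz, Category.assoc,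
        Category.assoc, ← Category.assoc (pullback.fst _ _), pullback.condition, Category.assoc]
    refine ⟨φ, hc.hom_ext fun p => ?_⟩
    rw [← tr_natural, hφ, hz]

theorem isLeftAdjoint : f.IsLeftAdjoint := by
  apply f.isLeftAdjoint_of_rightAdjointObjIsDefined_eq_top
  ext G
  simp only [Pi.top_apply, Prop.top_eq_true, iff_true]
  exact ⟨rightSheaf f hf G, ⟨{
    homEquiv := fun {H} => (Equiv.ofBijective _ (tr_bijective f hf G H)).symm
    homEquiv_comp := fun {H H'} h ψ => by
      rw [Equiv.symm_apply_eq]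
      refine Eq.trans ?_ (tr_natural f hf G h _).symm
      exact congrArg (h ≫ ·) ((Equiv.ofBijective _ (tr_bijective f hf G H')).apply_symm_apply ψ).symm }⟩⟩

end Groth.Agent.SubTopos.CanTopos
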