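import Mathlib
import Groth.Prelude.Def_SGA4a
import Groth.Agent.ShfQuot.Sheaf

/-!
Giraud's axioms for a sheaf topos: coproducts are disjoint and universal, equivalence relations effective.
-/

universe w v u

open CategoryTheory CategoryTheory.Limits

namespace Groth.Agent.SubTopos.Giraud

theorem universal_types {ι : Type*} {F : Discrete ι ⥤ Type u} {c : Cocone F} (hc : IsColimit c) :
    IsUniversalColimit c := by
  intro F' c' α f h hα hp
  let F₀ : ι → Type u := fun i => F.obj ⟨i⟩
  refine ⟨(IsColimit.precomposeHomEquiv (Discrete.natIsoFunctor (F := F')).symm c') ?_⟩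
  refine (Cofan.nonempty_isColimit_iff_bijective_fromSigma _).2 ⟨?_, ?_⟩ |>.some
  · rintro ⟨i, x⟩ ⟨j, y⟩ hxy
    have hx : c'.ι.app ⟨i⟩ x = c'.ι.app ⟨j⟩ y := by
      exact hxy
    have e : ∀ k (z : F'.obj ⟨k⟩), c.ι.app ⟨k⟩ (α.app ⟨k⟩ z) = f (c'.ι.app ⟨k⟩ z) := fun k z =>
      ConcreteCategory.congr_hom (NatTrans.congr_app h ⟨k⟩) z
    obtain rfl : i = j := by
      let d : Cofan F₀ := (Cocone.precompose (Discrete.natIsoFunctor (F := F)).inv).obj c
      have hd : IsColimit d := (IsColimit.precomposeHomEquiv (Discrete.natIsoFunctor (F := F)).symm c).symm hc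
      refine Cofan.eq_of_inj_apply_eq_of_isColimit hd (α.app ⟨i⟩ x) (α.app ⟨j⟩ y) ?_
      exact (e i x).trans ((congrArg f hx).trans (e j y).symm)
    have := ((Types.isPullback_iff _ _ _ _).1 (hp ⟨i⟩)).2.1 x y ⟨hx, ?_⟩
    · rw [this]
    · let d : Cofan F₀ := (Cocone.precompose (Discrete.natIsoFunctor (F := F)).inv).obj c
      have hd : IsColimit d := (IsColimit.precomposeHomEquiv (Discrete.natIsoFunctor (F := F)).symm c).symm hc
      refine Cofan.inj_injective_of_isColimit hd i ?_
      exact (e i x).trans ((congrArg f hx).trans (e i y).symm)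
  · intro z
    obtain ⟨⟨i⟩, w, hw⟩ := Types.jointly_surjective _ hc (f z)
    obtain ⟨x, hx, -⟩ := ((Types.isPullback_iff _ _ _ _).1 (hp ⟨i⟩)).2.2 z w hw.symm
    exact ⟨⟨i, x⟩, hx⟩

theorem universal_functor {ι : Type u} {K : Type*} [Category K] {F : Discrete ι ⥤ K ⥤ Type u} {c : Cocone F}
    (hc : IsColimit c) : IsUniversalColimit c := by
  intro F' c' α f e hα H
  refine ⟨evaluationJointlyReflectsColimits _ fun x => Nonempty.some ?_⟩
  exact universal_types (isColimitOfPreserves ((evaluation K (Type u)).obj x) hc)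
    (((evaluation K (Type u)).obj x).mapCocone c') (Functor.whiskerRight α _) (((evaluation K (Type u)).obj x).map f)
    (by
      ext y
      exact ConcreteCategory.congr_hom (NatTrans.congr_app (NatTrans.congr_app e y) x) _)
    (hα.whiskerRight _) fun j => (H j).map ((evaluation K (Type u)).obj x)

variable {C : Type u} [SmallCategory C] (J : GrothendieckTopology C)

theorem disjointUniversal : SGA4.HasDisjointUniversalCoproducts.{u + 1, u} (Sheaf J (Type u)) := by
  intro ι X
  let a := presheafToSheaf J (Type u)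
  let S := sheafToPresheaf J (Type u)
  let adj := sheafificationAdjunction J (Type u)
  let P : Cofan fun i => (X i).obj := colimit.cocone _
  have hP : IsColimit P := colimit.isColimit _
  let D : Cofan fun i => a.obj ((X i).obj) := Cofan.mk (a.obj P.pt) fun i => a.map (P.inj i)
  have hD : IsColimit D := isColimitCofanMkObjOfIsColimit a _ _
    (IsColimit.ofIsoColimit hP (Cofan.ext (Iso.refl _) (by simp [Cofan.inj])))
  let α : Discrete.functor X ≅ Discrete.functor fun i => a.obj ((X i).obj) :=
    Discrete.natIso fun i => (asIso (adj.counit.app (X i.as))).symm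
  let c : Cofan X := (Cocone.precompose α.hom).obj D
  have hc : IsColimit c := (IsColimit.precomposeHomEquiv α D).symm hD
  have hinj : ∀ i, c.inj i = inv (adj.counit.app (X i)) ≫ a.map (P.inj i) := fun i => rfl
  haveI hmono : ∀ i, Mono (P.inj i) := fun i => by
    haveI : ∀ U, Mono ((P.inj i).app U) := fun U => (mono_iff_injective _).2
      (Cofan.inj_injective_of_isColimit
        (c := Cofan.mk (P.pt.obj U) fun k => (P.inj k).app U)
        (isColimitCofanMkObjOfIsColimit ((evaluation Cᵒᵖ (Type u)).obj U) _ _
          (IsColimit.ofIsoColimit hP (Cofan.ext (Iso.refl _) (by simp [Cofan.inj])))) i)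
    exact NatTrans.mono_of_mono_app _
  haveI : ∀ i, Mono (c.inj i) := fun i => by
    rw [hinj]
    exact mono_comp _ _
  refine ⟨c, hc, ?_, ?_⟩
  · have hpb : ∀ {i j : ι}, i ≠ j → ∃ h : IsInitial (pullback (c.inj i) (c.inj j)), True := by
      intro i j hij
      have he : ∀ U, IsEmpty ((pullback (P.inj i) (P.inj j)).obj U) := fun U => ⟨fun z => hij <|
        Cofan.eq_of_inj_apply_eq_of_isColimit
          (c := Cofan.mk (P.pt.obj U) fun k => (P.inj k).app U)
          (isColimitCofanMkObjOfIsColimit ((evaluation Cᵒᵖ (Type u)).obj U) _ _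
            (IsColimit.ofIsoColimit hP (Cofan.ext (Iso.refl _) (by simp [Cofan.inj]))))
          ((pullback.fst (P.inj i) (P.inj j)).app U z) ((pullback.snd (P.inj i) (P.inj j)).app U z)
          (ConcreteCategory.congr_hom (NatTrans.congr_app (pullback.condition (f := P.inj i) (g := P.inj j)) U) z)⟩
      have h0 : IsInitial (pullback (P.inj i) (P.inj j)) := IsInitial.ofUniqueHom
        (fun Y => { app := fun U => ↾(fun z => (he U).elim z)
                    naturality := fun U V g => by ext z; exact (he U).elim z })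
        (fun Y m => by ext U z; exact (he U).elim z)
      haveI := adj.leftAdjoint_preservesColimits
      have h1 : IsInitial (a.obj (pullback (P.inj i) (P.inj j))) := h0.isInitialObj a _
      refine ⟨h1.ofIso ((((IsPullback.of_hasPullback (P.inj i) (P.inj j)).map a).of_iso
        (fst' := a.map (pullback.fst (P.inj i) (P.inj j)) ≫ adj.counit.app (X i))
        (snd' := a.map (pullback.snd (P.inj i) (P.inj j)) ≫ adj.counit.app (X j)) (Iso.refl _)
        (asIso (adj.counit.app (X i))) (asIso (adj.counit.app (X j))) (Iso.refl _) ?_ ?_ ?_ ?_).isoPullback), trivial⟩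
      · exact (Category.id_comp _).symm
      · exact (Category.id_comp _).symm
      · rw [hinj]; simp
      · rw [hinj]; simp
    exact CoproductDisjoint.of_cofan hc (fun {i j} _ => pullback.cone (c.inj i) (c.inj j))
      (fun _ => pullback.isLimit _ _) (fun h => (hpb h).choose)
  · let P' : Cocone (Discrete.functor X ⋙ S) :=
      (Cocone.precompose (Discrete.natIso fun i => Iso.refl _ :
        Discrete.functor X ⋙ S ≅ Discrete.functor fun i => (X i).obj).hom).obj P
    have hP' : IsColimit P' := (IsColimit.precomposeHomEquiv _ P).symm hP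
    have h1 : IsUniversalColimit (a.mapCocone P') := (universal_functor hP').map_reflective adj
    let β : Discrete.functor X ≅ (Discrete.functor X ⋙ S) ⋙ a :=
      Discrete.natIso fun i => (asIso (adj.counit.app (X i.as))).symm
    refine (h1.precompose_isIso β.hom).of_iso (Cocone.ext (Iso.refl _) (fun i => ?_))
    rw [Iso.refl_hom, Category.comp_id]
    exact congrArg ((asIso (adj.counit.app (X i.as))).inv ≫ ·) (congrArg a.map (Category.id_comp _))

theorem effective {R A : Sheaf J (Type u)} (p₁ p₂ : R ⟶ A) (h : SGA4.IsEquivRel p₁ p₂) :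
    SGA4.IsEffectiveUniversalEquivRel p₁ p₂ := by
  haveI : IsEquivalenceRelation p₁ p₂ := by
    refine ⟨⟨?_⟩⟩
    have e1 := (h A).2.refl (𝟙 A)
    have e2 := (h R).2.symm (x := p₁) (y := p₂) ⟨𝟙 R, Category.id_comp _, Category.id_comp _⟩
    have e3 := (h (pullback p₂ p₁)).2.trans (x := pullback.fst p₂ p₁ ≫ p₁) (y := pullback.fst p₂ p₁ ≫ p₂)
      (z := pullback.snd p₂ p₁ ≫ p₂) ⟨pullback.fst _ _, rfl, rfl⟩
      ⟨pullback.snd _ _, pullback.condition.symm, rfl⟩
    exact
      { right_cancellation := fun {Y} a b h₁ h₂ => (h Y).1 (Prod.ext h₁ h₂)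
        r := e1.choose
        reflexivity₁ := e1.choose_spec.1
        reflexivity₂ := e1.choose_spec.2
        s := e2.choose
        symmetry₁ := e2.choose_spec.1
        symmetry₂ := e2.choose_spec.2
        c := pullback.cone p₂ p₁
        isLimit := pullback.isLimit _ _
        t := e3.choose
        transitivity₁ := e3.choose_spec.1
        transitivity₂ := e3.choose_spec.2 }
  obtain ⟨⟨e⟩⟩ := Groth.Agent.S5217.result J p₁ p₂
  exact ⟨e.B, e.π, e.isKernelPair, e.isPushout, fun B' g =>
    e.universally_effectiveEpi_π _ _ _ (IsPullback.of_hasPullback e.π g).flip⟩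

end Groth.Agent.SubTopos.Giraud
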