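import Groth.Agent.SubTopos.Sheaf

/-!
A sheaf topos is glued from an open subtopos and its closed complement.
-/

universe w v u

open CategoryTheory CategoryTheory.Limits

namespace Groth.Agent.SubTopos

variable {C : Type u} [SmallCategory C] {J : GrothendieckTopology C} {U : Sheaf J (Type u)}
  (hU : SGA4.IsOpen U) [(Over.star U).IsLeftAdjoint]
  {L : Sheaf J (Type u) ⥤ (SGA4.closedCompl U).FullSubcategory} (adj : L ⊣ (SGA4.closedCompl U).ι)

/-- `j^* ⊣ j_*` -/
noncomputable abbrev adjR (U : Sheaf J (Type u)) [(Over.star U).IsLeftAdjoint] :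
    Over.star U ⊣ (Over.star U).rightAdjoint :=
  Adjunction.ofIsLeftAdjoint _

/-- the gluing functor -/
noncomputable def glue (U : Sheaf J (Type u)) [(Over.star U).IsLeftAdjoint]
    (L : Sheaf J (Type u) ⥤ (SGA4.closedCompl U).FullSubcategory) :
    Sheaf J (Type u) ⥤ Comma (𝟭 (SGA4.closedCompl U).FullSubcategory) ((Over.star U).rightAdjoint ⋙ L) where
  obj X := { left := L.obj X, right := (Over.star U).obj X, hom := L.map ((adjR U).unit.app X) }
  map {X Y} f :=
    { left := L.map f
      right := (Over.star U).map f
      w := by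
        dsimp
        rw [← L.map_comp, ← L.map_comp]
        exact congrArg L.map ((adjR U).unit.naturality f) }

include hU

theorem isIso_counit (Z : Over U) : IsIso ((adjR U).counit.app Z) := by
  haveI : (Over.forget U).Full :=
    ⟨fun {a b} f => ⟨Over.homMk f (hom_subsingleton hU _ _), rfl⟩⟩
  let t : Adjunction.Triple (Over.forget U) (Over.star U) (Over.star U).rightAdjoint :=
    ⟨Over.forgetAdjStar U, adjR U⟩
  haveI := (t.fullyFaithfulEquiv (Functor.FullyFaithful.ofFullyFaithful _)).full
  haveI := (t.fullyFaithfulEquiv (Functor.FullyFaithful.ofFullyFaithful _)).faithful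
  infer_instance

theorem isIso_star_unit (X : Sheaf J (Type u)) : IsIso ((Over.star U).map ((adjR U).unit.app X)) := by
  haveI := isIso_counit hU ((Over.star U).obj X)
  haveI : IsIso ((Over.star U).map ((adjR U).unit.app X) ≫ (adjR U).counit.app ((Over.star U).obj X)) := by
    erw [(adjR U).left_triangle_components]
    exact IsIso.id ((Over.star U).obj X)
  exact IsIso.of_isIso_comp_right _ ((adjR U).counit.app ((Over.star U).obj X))

omit hU in
include adj in
theorem isIso_L_unit (X : Sheaf J (Type u)) : IsIso (L.map (adj.unit.app X)) := by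
  haveI : IsIso (L.map (adj.unit.app X) ≫ adj.counit.app (L.obj X)) := by
    erw [adj.left_triangle_components]
    exact IsIso.id (L.obj X)
  exact IsIso.of_isIso_comp_right _ (adj.counit.app (L.obj X))

omit hU in
theorem isIso_star_of_closed [(Over.star U).IsLeftAdjoint] {A B : Sheaf J (Type u)} (hA : SGA4.closedCompl U A)
    (hB : SGA4.closedCompl U B) (m : A ⟶ B) : IsIso ((Over.star U).map m) := by
  rw [isIso_star_map_iff]
  haveI : IsIso (prod.fst : U ⨯ A ⟶ U) := hA
  haveI : IsIso (prod.fst : U ⨯ B ⟶ U) := hB
  haveI : IsIso (prod.map (𝟙 U) m ≫ (prod.fst : U ⨯ B ⟶ U)) := by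
    rw [prod.map_fst, Category.comp_id]; infer_instance
  exact IsIso.of_isIso_comp_right _ (prod.fst : U ⨯ B ⟶ U)

include adj in
theorem glued_isIso {Y : (SGA4.closedCompl U).FullSubcategory} {Z : Over U}
    (a : Y ⟶ L.obj ((Over.star U).rightAdjoint.obj Z)) {P : Sheaf J (Type u)} {p : P ⟶ Y.obj}
    {q : P ⟶ (Over.star U).rightAdjoint.obj Z}
    (h : IsPullback p q ((SGA4.closedCompl U).ι.map a) (adj.unit.app _)) :
    IsIso (L.map p) ∧ IsIso ((Over.star U).map q) := by
  haveI := preserves_L hU adj
  haveI : PreservesLimitsOfSize.{0, 0} (Over.star U) :=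
    (Over.forgetAdjStar U).rightAdjoint_preservesLimits
  haveI := isIso_L_unit adj ((Over.star U).rightAdjoint.obj Z)
  haveI := isIso_star_of_closed (U := U) Y.property (L.obj ((Over.star U).rightAdjoint.obj Z)).property
    ((SGA4.closedCompl U).ι.map a)
  exact ⟨(h.map L).isIso_fst_of_isIso, (h.map (Over.star U)).isIso_snd_of_isIso⟩

include adj in
theorem isPullback_glue (X : Sheaf J (Type u)) :
    IsPullback (adj.unit.app X) ((adjR U).unit.app X)
      ((SGA4.closedCompl U).ι.map (L.map ((adjR U).unit.app X)))
      (adj.unit.app ((Over.star U).rightAdjoint.obj ((Over.star U).obj X))) := by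
  have w : adj.unit.app X ≫ (SGA4.closedCompl U).ι.map (L.map ((adjR U).unit.app X)) =
      (adjR U).unit.app X ≫ adj.unit.app ((Over.star U).rightAdjoint.obj ((Over.star U).obj X)) :=
    (adj.unit.naturality ((adjR U).unit.app X)).symm
  let a := (SGA4.closedCompl U).ι.map (L.map ((adjR U).unit.app X))
  let η := adj.unit.app ((Over.star U).rightAdjoint.obj ((Over.star U).obj X))
  let c : X ⟶ pullback a η := pullback.lift (adj.unit.app X) ((adjR U).unit.app X) w
  obtain ⟨h1, h2⟩ := glued_isIso hU adj (L.map ((adjR U).unit.app X)) (IsPullback.of_hasPullback a η)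
  haveI : IsIso c := by
    rw [jointly_conservative hU adj]
    refine ⟨?_, ?_⟩
    · haveI : IsIso ((Over.star U).map c ≫ (Over.star U).map (pullback.snd a η)) := by
        rw [← Functor.map_comp, pullback.lift_snd]
        exact isIso_star_unit hU X
      exact IsIso.of_isIso_comp_right _ ((Over.star U).map (pullback.snd a η))
    · haveI : IsIso (L.map c ≫ L.map (pullback.fst a η)) := by
        rw [← Functor.map_comp, pullback.lift_fst]
        exact isIso_L_unit adj X
      exact IsIso.of_isIso_comp_right _ (L.map (pullback.fst a η))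
  exact (IsPullback.of_hasPullback a η).of_iso (asIso c).symm (Iso.refl _) (Iso.refl _) (Iso.refl _)
    (by rw [Iso.symm_hom, asIso_inv, Iso.refl_hom, IsIso.eq_inv_comp, Category.comp_id]
        exact pullback.lift_fst _ _ _)
    (by rw [Iso.symm_hom, asIso_inv, Iso.refl_hom, IsIso.eq_inv_comp, Category.comp_id]
        exact pullback.lift_snd _ _ _)
    (by simp [a]) (by simp [η])

include adj in
theorem glue_isEquivalence : (glue U L).IsEquivalence := by
  haveI : (glue U L).Faithful := ⟨fun {X Y} f g h => by
    have h1 : L.map f = L.map g := congrArg CommaMorphism.left h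
    have h2 : (Over.star U).map f = (Over.star U).map g := congrArg CommaMorphism.right h
    apply (isPullback_glue hU adj Y).hom_ext
    · refine (adj.unit.naturality f).trans (Eq.trans ?_ (adj.unit.naturality g).symm)
      rw [Functor.comp_map, Functor.comp_map, h1]
    · refine ((adjR U).unit.naturality f).trans (Eq.trans ?_ ((adjR U).unit.naturality g).symm)
      rw [Functor.comp_map, Functor.comp_map, h2]⟩
  haveI : (glue U L).Full := ⟨fun {X Y} g => by
    have hw : g.left ≫ L.map ((adjR U).unit.app Y) =
        L.map ((adjR U).unit.app X) ≫ L.map ((Over.star U).rightAdjoint.map g.right) := g.w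
    let m := (isPullback_glue hU adj Y).lift (adj.unit.app X ≫ (SGA4.closedCompl U).ι.map g.left)
      ((adjR U).unit.app X ≫ (Over.star U).rightAdjoint.map g.right) (by
        refine ((Category.assoc _ _ _).trans (congrArg (adj.unit.app X ≫ ·)
          ((((SGA4.closedCompl U).ι.map_comp _ _).symm.trans
            (congrArg (SGA4.closedCompl U).ι.map hw)).trans ((SGA4.closedCompl U).ι.map_comp _ _)))).trans ?_
        refine (Category.assoc _ _ _).symm.trans ?_
        exact (congrArg (· ≫ _) (adj.unit.naturality ((adjR U).unit.app X)).symm).trans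
          ((Category.assoc _ _ _).trans ((congrArg (_ ≫ ·) (adj.unit.naturality _).symm).trans
            (Category.assoc _ _ _).symm)))
    refine ⟨m, ?_⟩
    apply CommaMorphism.ext
    · apply (adj.homEquiv _ _).injective
      rw [adj.homEquiv_unit, adj.homEquiv_unit]
      exact (adj.unit.naturality m).symm.trans ((isPullback_glue hU adj Y).lift_fst _ _ _)
    · apply ((adjR U).homEquiv _ _).injective
      rw [(adjR U).homEquiv_unit, (adjR U).homEquiv_unit]
      exact ((adjR U).unit.naturality m).symm.trans ((isPullback_glue hU adj Y).lift_snd _ _ _)⟩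
  haveI : (glue U L).EssSurj := ⟨fun T => by
    let a := (SGA4.closedCompl U).ι.map T.hom
    let η := adj.unit.app ((Over.star U).rightAdjoint.obj T.right)
    obtain ⟨h1, h2⟩ := glued_isIso hU adj T.hom (IsPullback.of_hasPullback a η)
    haveI := isIso_counit hU T.right
    let e₁ : L.obj (pullback a η) ⟶ T.left := L.map (pullback.fst a η) ≫ adj.counit.app T.left
    let e₂ : (Over.star U).obj (pullback a η) ⟶ T.right :=
      (Over.star U).map (pullback.snd a η) ≫ (adjR U).counit.app T.right
    have i₁ : IsIso e₁ := @IsIso.comp_isIso _ _ _ _ _ _ _ h1 inferInstance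
    have i₂ : IsIso e₂ := @IsIso.comp_isIso _ _ _ _ _ _ _ h2 inferInstance
    refine ⟨pullback a η, ⟨Comma.isoMk (@asIso _ _ _ _ e₁ i₁) (@asIso _ _ _ _ e₂ i₂) ?_⟩⟩
    show e₁ ≫ T.hom = L.map ((adjR U).unit.app _) ≫ L.map ((Over.star U).rightAdjoint.map e₂)
    rw [← L.map_comp]
    erw [← (adjR U).homEquiv_unit]
    have h3 : (adjR U).homEquiv _ _ e₂ = pullback.snd a η := by
      rw [show e₂ = ((adjR U).homEquiv _ _).symm (pullback.snd a η) from ((adjR U).homEquiv_counit ..).symm,
        Equiv.apply_symm_apply]
    refine Eq.trans ?_ (congrArg L.map h3).symm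
    have h4 := congrArg (fun z => L.map z ≫ adj.counit.app _) (pullback.condition (f := a) (g := η))
    dsimp only [a, η] at h4 ⊢
    erw [L.map_comp, L.map_comp, Category.assoc, Category.assoc, adj.left_triangle_components] at h4
    refine (Category.assoc _ _ _).trans ?_
    refine Eq.trans ?_ (h4.trans (Category.comp_id _))
    exact congrArg (_ ≫ ·) (adj.counit.naturality T.hom).symm⟩
  exact { }

end Groth.Agent.SubTopos
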