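import Groth.Agent.SubTopos.GiraudTransfer

/-!
Glued categories are topoi.
-/

universe w v v' u

set_option synthInstance.maxHeartbeats 20000
set_option maxHeartbeats 400000

open CategoryTheory CategoryTheory.Limits Opposite

namespace Groth.Agent.SubTopos.Giraud

section comma

variable {C D : Type u} [SmallCategory C] [SmallCategory D] {J : GrothendieckTopology C} {K : GrothendieckTopology D}
  (ρ : Sheaf J (Type u) ⥤ Sheaf K (Type u))

/-- sheafified representable with a chosen element -/
noncomputable def repr' {C : Type u} [SmallCategory C] (J : GrothendieckTopology C) (c : C) (F : Sheaf J (Type u)) :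
    ((presheafToSheaf J (Type u)).obj (yoneda.obj c) ⟶ F) ≃ F.obj.obj (op c) :=
  ((sheafificationAdjunction J (Type u)).homEquiv _ _).trans yonedaEquiv

theorem repr'_comp {C : Type u} [SmallCategory C] {J : GrothendieckTopology C} {c : C} {F F' : Sheaf J (Type u)}
    (g : (presheafToSheaf J (Type u)).obj (yoneda.obj c) ⟶ F) (φ : F ⟶ F') :
    repr' J c F' (g ≫ φ) = φ.hom.app (op c) (repr' J c F g) := by
  simp only [repr', Equiv.trans_apply, Adjunction.homEquiv_naturality_right, yonedaEquiv_comp]
  rfl

/-- the two sheaf topoi -/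
@[reducible] def TT (J : GrothendieckTopology C) (K : GrothendieckTopology D) (b : Bool) : Type (u + 1) :=
  cond b (Sheaf K (Type u)) (Sheaf J (Type u))

@[reducible] noncomputable instance catTT : ∀ b, Category.{u} (TT J K b)
  | true => inferInstanceAs (Category (Sheaf K (Type u)))
  | false => inferInstanceAs (Category (Sheaf J (Type u)))

instance limTT : ∀ b, HasFiniteLimits (TT J K b)
  | true => inferInstanceAs (HasFiniteLimits (Sheaf K (Type u)))
  | false => inferInstanceAs (HasFiniteLimits (Sheaf J (Type u)))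

instance axTT : ∀ b, Ax (TT J K b)
  | true => sheafAx K
  | false => sheafAx J

/-- the two projections -/
noncomputable def projTT : ∀ b, Comma (𝟭 (Sheaf K (Type u))) ρ ⥤ TT J K b
  | true => Comma.fst _ _
  | false => Comma.snd _ _

theorem commaAx [PreservesFiniteLimits ρ] : Ax (Comma (𝟭 (Sheaf K (Type u))) ρ) := by
  haveI : ∀ b, PreservesColimitsOfSize.{u, u} (projTT ρ b) := fun b => match b with
    | true => ⟨fun {_} _ => inferInstanceAs (PreservesColimitsOfShape _ (Comma.fst (𝟭 (Sheaf K (Type u))) ρ))⟩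
    | false => ⟨fun {_} _ => inferInstanceAs (PreservesColimitsOfShape _ (Comma.snd (𝟭 (Sheaf K (Type u))) ρ))⟩
  haveI : ∀ b, PreservesFiniteLimits (projTT ρ b) := fun b => match b with
    | true => ⟨fun _ _ _ => ⟨fun {G} => preservesLimit_of_preserves_limit_cone
        (Comma.coneOfPreservesIsLimit G (limit.isLimit _) (limit.isLimit _))
        (IsLimit.ofIsoLimit (limit.isLimit (G ⋙ Comma.fst _ _)) (Cone.ext (Iso.refl _) fun _ => (Category.id_comp _).symm))⟩⟩
    | false => ⟨fun _ _ _ => ⟨fun {G} => preservesLimit_of_preserves_limit_cone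
        (Comma.coneOfPreservesIsLimit G (limit.isLimit _) (limit.isLimit _))
        (IsLimit.ofIsoLimit (limit.isLimit (G ⋙ Comma.snd _ _)) (Cone.ext (Iso.refl _) fun _ => (Category.id_comp _).symm))⟩⟩
  refine axOfJointly (projTT ρ) fun X Y f h => ?_
  haveI : IsIso f.left := h true
  haveI : IsIso f.right := h false
  exact ⟨{ left := inv f.left
           right := inv f.right
           w := by
            dsimp
            rw [IsIso.inv_comp_eq, ← Category.assoc, ← Functor.id_map (C := Sheaf K (Type u)) f.left]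
            erw [f.w]
            rw [Category.assoc, ← ρ.map_comp, IsIso.hom_inv_id, ρ.map_id, Category.comp_id] },
    by ext <;> simp, by ext <;> simp⟩

theorem isTopos_comma [PreservesFiniteLimits ρ] [ρ.IsAccessible.{u}] :
    SGA4.IsTopos.{u + 1, u} (Comma (𝟭 (Sheaf K (Type u))) ρ) := by
  haveI := commaAx ρ
  obtain ⟨κ, _, _⟩ := Functor.IsAccessible.exists_cardinal.{u} (F := ρ)
  haveI : IsCardinalLocallyPresentable (Cᵒᵖ ⥤ Type u) κ := inferInstance
  obtain ⟨P, hPe, hP⟩ := HasCardinalFilteredGenerator.exists_generator (Cᵒᵖ ⥤ Type u) κ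
  haveI : ObjectProperty.EssentiallySmall.{u} P := hPe
  obtain ⟨P', _, -, hP'⟩ := ObjectProperty.EssentiallySmall.exists_small_le.{u} P
  let a := presheafToSheaf J (Type u)
  let Q : Shrink.{u} (Subtype P') → Sheaf J (Type u) := fun j => a.obj ((equivShrink _).symm j).1
  -- local lifting of elements of `ρ Z`
  have hlift : ∀ (Z : Sheaf J (Type u)) (d : D) (e : (ρ.obj Z).obj.obj (op d)),
      ∃ S ∈ K d, ∀ ⦃W : D⦄ (g : W ⟶ d), S g → ∃ (j : Shrink.{u} (Subtype P')) (z : Q j ⟶ Z)
        (e₀ : (ρ.obj (Q j)).obj.obj (op W)), (ρ.map z).hom.app (op W) e₀ = (ρ.obj Z).obj.map g.op e := by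
    intro Z d e
    obtain ⟨I, _, _, ⟨hI⟩⟩ := hP.exists_colimitsOfShape Z.obj
    haveI : IsFiltered I := isFiltered_of_isCardinalFiltered I κ
    haveI : PreservesColimitsOfShape I ρ := ρ.preservesColimitsOfShape_of_isCardinalAccessible κ I
    let c := a.mapCocone (Cocone.mk _ hI.toColimitPresentation.ι)
    have hc : IsColimit c := isColimitOfPreserves a hI.toColimitPresentation.isColimit
    let G := hI.toColimitPresentation.diag ⋙ a
    let c₂ := ρ.mapCocone c
    have hc₂ : IsColimit c₂ := isColimitOfPreserves ρ hc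
    let ε : a.obj Z.obj ⟶ Z := (sheafificationAdjunction J (Type u)).counit.app Z
    haveI : IsIso ε := inferInstance
    let q : (∐ fun i => ρ.obj (G.obj i)) ⟶ ρ.obj Z := Sigma.desc fun i => c₂.ι.app i ≫ ρ.map ε
    haveI : Epi q := ⟨fun {W} u v huv => by
      rw [← cancel_epi (ρ.map ε)]
      refine hc₂.hom_ext fun i => ?_
      simpa [q] using congrArg (Sigma.ι (fun i => ρ.obj (G.obj i)) i ≫ ·) huv⟩
    -- lift through the coproduct, which is computed by sheafifying the presheaf one
    let Y : I → Sheaf K (Type u) := fun i => ρ.obj (G.obj i)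
    let q' : (∐ fun i => (Y i).obj) ⟶ (ρ.obj Z).obj :=
      Sigma.desc fun i => (c₂.ι.app i ≫ ρ.map ε).hom
    have hq : Presheaf.IsLocallySurjective K q' := by
      rw [← Presheaf.isLocallySurjective_presheafToSheaf_map_iff, Sheaf.isLocallySurjective_iff_epi]
      refine ⟨fun {W} u v huv => ?_⟩
      have key : ∀ i, (presheafToSheaf K (Type u)).map (c₂.ι.app i ≫ ρ.map ε).hom ≫ u =
          (presheafToSheaf K (Type u)).map (c₂.ι.app i ≫ ρ.map ε).hom ≫ v := fun i => by
        have h := congrArg ((presheafToSheaf K (Type u)).map (Sigma.ι (fun i => (Y i).obj) i) ≫ ·) huv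
        simpa only [← Category.assoc, ← Functor.map_comp, q', Sigma.ι_desc] using h
      let ε' := (sheafificationAdjunction K (Type u)).counit
      rw [← cancel_epi (inv (ε'.app (ρ.obj Z))), ← cancel_epi q]
      refine Sigma.hom_ext _ _ fun i => ?_
      have hnat : (c₂.ι.app i ≫ ρ.map ε) ≫ inv (ε'.app (ρ.obj Z)) =
          inv (ε'.app (Y i)) ≫ (presheafToSheaf K (Type u)).map (c₂.ι.app i ≫ ρ.map ε).hom := by
        rw [IsIso.eq_inv_comp, ← Category.assoc, IsIso.comp_inv_eq]
        exact (ε'.naturality (c₂.ι.app i ≫ ρ.map ε)).symm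
      simp only [q, Sigma.ι_desc_assoc]
      rw [← Category.assoc, hnat, ← Category.assoc (c₂.ι.app i ≫ ρ.map ε), hnat, Category.assoc, Category.assoc]
      exact congrArg (inv (ε'.app (Y i)) ≫ ·) (key i)
    refine ⟨_, Presheaf.imageSieve_mem K q' e, fun W g hg => ?_⟩
    obtain ⟨y, hy⟩ := hg
    obtain ⟨⟨i⟩, y₀, rfl⟩ := Types.jointly_surjective _
      (isColimitOfPreserves ((evaluation Dᵒᵖ (Type u)).obj (op W))
        (colimit.isColimit (Discrete.functor fun i => (Y i).obj))) y
    obtain ⟨X', hX', ⟨iso⟩⟩ := hP' _ (hI.prop_diag_obj i)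
    let j := equivShrink (Subtype P') ⟨X', hX'⟩
    let ι' : Q j ≅ G.obj i := a.mapIso (eqToIso (by simp [j]) ≪≫ iso.symm)
    refine ⟨j, ι'.hom ≫ c.ι.app i ≫ ε, (ρ.map ι'.inv).hom.app (op W) y₀, ?_⟩
    rw [← hy, ← ConcreteCategory.comp_apply, ← NatTrans.comp_app, ← ObjectProperty.FullSubcategory.comp_hom,
      ← ρ.map_comp, Iso.inv_hom_id_assoc, ρ.map_comp]
    exact (ConcreteCategory.congr_hom (NatTrans.congr_app
      (Sigma.ι_desc (fun i => (c₂.ι.app i ≫ ρ.map ε).hom) i) (op W)) y₀).symm
  -- generators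
  let S₁ : C → Comma (𝟭 (Sheaf K (Type u))) ρ := fun c =>
    { left := ⊥_ _, right := a.obj (yoneda.obj c), hom := initial.to _ }
  let S₂ : (Σ (d : D) (j : Shrink.{u} (Subtype P')), (ρ.obj (Q j)).obj.obj (op d)) →
      Comma (𝟭 (Sheaf K (Type u))) ρ := fun p =>
    { left := (presheafToSheaf K (Type u)).obj (yoneda.obj p.1), right := Q p.2.1,
      hom := (repr' K p.1 (ρ.obj (Q p.2.1))).symm p.2.2 }
  refine isTopos_of_detecting (G := Sum.elim S₁ S₂) ?_
  intro X X' f h
  haveI hright : IsIso f.right := by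
    haveI : IsIso f.right.hom := by
      haveI : ∀ c, IsIso (f.right.hom.app c) := fun c => by
        let lift : (a.obj (yoneda.obj c.unop) ⟶ X.right) → (S₁ c.unop ⟶ X) := fun g =>
          { left := initial.to _, right := g, w := initialIsInitial.hom_ext _ _ }
        let lift' : (a.obj (yoneda.obj c.unop) ⟶ X'.right) → (S₁ c.unop ⟶ X') := fun g =>
          { left := initial.to _, right := g, w := initialIsInitial.hom_ext _ _ }
        rw [isIso_iff_bijective]
        constructor
        · intro x y hxy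
          obtain ⟨g₁, rfl⟩ := (repr' J c.unop X.right).surjective x
          obtain ⟨g₂, rfl⟩ := (repr' J c.unop X.right).surjective y
          erw [← repr'_comp, ← repr'_comp] at hxy
          obtain ⟨g, -, hu⟩ := h _ (ObjectProperty.ofObj_apply _ (Sum.inl c.unop)) (lift g₁ ≫ f)
          have h1 := hu (lift g₁) rfl
          have h2 := hu (lift g₂) (CommaMorphism.ext (initialIsInitial.hom_ext _ _)
            ((repr' J c.unop X'.right).injective hxy).symm)
          exact congrArg (repr' J c.unop X.right) (congrArg CommaMorphism.right (h1.trans h2.symm))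
        · intro y
          obtain ⟨g₀, rfl⟩ := (repr' J c.unop X'.right).surjective y
          obtain ⟨g, hg, -⟩ := h _ (ObjectProperty.ofObj_apply _ (Sum.inl c.unop)) (lift' g₀)
          refine ⟨repr' J c.unop X.right g.right, ?_⟩
          erw [← repr'_comp]
          exact congrArg (repr' J c.unop X'.right) (congrArg CommaMorphism.right hg)
      exact NatIso.isIso_of_isIso_app _
    exact @isIso_of_reflects_iso _ _ _ _ _ _ f.right (sheafToPresheaf J (Type u)) (inferInstanceAs (IsIso f.right.hom)) _
  -- morphisms out of the second generators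
  have hgen : ∀ (Z : Comma (𝟭 (Sheaf K (Type u))) ρ) (d : D) (j) (e₀ : (ρ.obj (Q j)).obj.obj (op d))
      (y : Z.left.obj.obj (op d)) (z : Q j ⟶ Z.right),
      Z.hom.hom.app (op d) y = (ρ.map z).hom.app (op d) e₀ →
      ∃ m : S₂ ⟨d, j, e₀⟩ ⟶ Z, repr' K d Z.left m.left = y ∧ m.right = z := by
    intro Z d j e₀ y z hyz
    refine ⟨{ left := (repr' K d Z.left).symm y, right := z, w := ?_ }, Equiv.apply_symm_apply _ _, rfl⟩
    apply (repr' K d (ρ.obj Z.right)).injective
    show repr' K d _ ((repr' K d Z.left).symm y ≫ Z.hom) = repr' K d _ ((repr' K d _).symm e₀ ≫ ρ.map z)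
    refine (repr'_comp ((repr' K d Z.left).symm y) Z.hom).trans
      (Eq.trans ?_ (repr'_comp ((repr' K d (ρ.obj (Q j))).symm e₀) (ρ.map z)).symm)
    rw [Equiv.apply_symm_apply, Equiv.apply_symm_apply]
    exact hyz
  haveI hleft : IsIso f.left := by
    have hnat : ∀ (W : D) (y : X.left.obj.obj (op W)),
        X'.hom.hom.app (op W) (f.left.hom.app (op W) y) = (ρ.map f.right).hom.app (op W) (X.hom.hom.app (op W) y) :=
      fun W y => ConcreteCategory.congr_hom (NatTrans.congr_app (congrArg (fun t => t.hom) f.w) (op W)) y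
    haveI : Mono f.left := by
      haveI : ∀ d, Mono (f.left.hom.app d) := fun ⟨d⟩ => (mono_iff_injective _).2 fun y₁ y₂ hy => by
        have he : X.hom.hom.app (op d) y₁ = X.hom.hom.app (op d) y₂ := by
          have h1 : (ρ.map f.right).hom.app (op d) (X.hom.hom.app (op d) y₁) =
              (ρ.map f.right).hom.app (op d) (X.hom.hom.app (op d) y₂) := by rw [← hnat, ← hnat, hy]
          haveI : IsIso ((ρ.map f.right).hom.app (op d)) :=
            inferInstanceAs (IsIso ((sheafToPresheaf K (Type u) ⋙ (evaluation _ _).obj (op d)).map (ρ.map f.right)))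
          exact ((isIso_iff_bijective _).1 inferInstance).1 h1
        obtain ⟨S, hS, hS'⟩ := hlift X.right d (X.hom.hom.app (op d) y₁)
        refine (((isSheaf_iff_isSheaf_of_type _ _).1 X.left.property) S hS).isSeparatedFor.ext fun W g hg => ?_
        obtain ⟨j, z, e₀, he₀⟩ := hS' g hg
        obtain ⟨m₁, hm₁, hz₁⟩ := hgen X W j e₀ (X.left.obj.map g.op y₁) z
          ((NatTrans.naturality_apply X.hom.hom g.op y₁).trans he₀.symm)
        obtain ⟨m₂, hm₂, hz₂⟩ := hgen X W j e₀ (X.left.obj.map g.op y₂) z
          ((NatTrans.naturality_apply X.hom.hom g.op y₂).trans ((congrArg _ he.symm).trans he₀.symm))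
        obtain ⟨m, -, hu⟩ := h _ (ObjectProperty.ofObj_apply _ (Sum.inr (⟨W, j, e₀⟩ : Σ (d : D) (j : Shrink.{u} (Subtype P')), (ρ.obj (Q j)).obj.obj (op d)))) (m₁ ≫ f)
        have h2 : m₂ ≫ f = m₁ ≫ f := by
          apply CommaMorphism.ext
          · apply (repr' K W X'.left).injective
            show repr' K W _ (m₂.left ≫ f.left) = repr' K W _ (m₁.left ≫ f.left)
            refine (repr'_comp m₂.left f.left).trans (Eq.trans ?_ (repr'_comp m₁.left f.left).symm)
            refine (congrArg (f.left.hom.app (op W)) hm₂).trans (Eq.trans ?_ (congrArg (f.left.hom.app (op W)) hm₁).symm)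
            refine (NatTrans.naturality_apply f.left.hom g.op y₂).trans
              (Eq.trans ?_ (NatTrans.naturality_apply f.left.hom g.op y₁).symm)
            rw [hy]
          · show m₂.right ≫ f.right = m₁.right ≫ f.right
            rw [hz₁, hz₂]
        have h3 : m₁ = m₂ := (hu m₁ rfl).trans (hu m₂ h2).symm
        rw [← hm₁, ← hm₂, h3]
      haveI : Mono f.left.hom := NatTrans.mono_of_mono_app _
      exact (sheafToPresheaf K (Type u)).mono_of_mono_map ‹_›
    haveI : Epi f.left := by
      refine (Sheaf.isLocallySurjective_iff_epi f.left).1 ⟨fun {d} y => ?_⟩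
      obtain ⟨S, hS, hS'⟩ := hlift X'.right d (X'.hom.hom.app (op d) y)
      refine K.superset_covering (fun W g hg => ?_) hS
      obtain ⟨j, z, e₀, he₀⟩ := hS' g hg
      obtain ⟨m', hm', -⟩ := hgen X' W j e₀ (X'.left.obj.map g.op y) z
        ((NatTrans.naturality_apply X'.hom.hom g.op y).trans he₀.symm)
      obtain ⟨m, hm, -⟩ := h _ (ObjectProperty.ofObj_apply _ (Sum.inr (⟨W, j, e₀⟩ : Σ (d : D) (j : Shrink.{u} (Subtype P')), (ρ.obj (Q j)).obj.obj (op d)))) m'
      refine ⟨repr' K W X.left m.left, ?_⟩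
      exact (repr'_comp m.left f.left).symm.trans
        ((congrArg (repr' K W X'.left) (congrArg CommaMorphism.left hm)).trans hm')
    exact isIso_of_mono_of_epi f.left
  exact ⟨{ left := inv f.left
           right := inv f.right
           w := by
            dsimp
            rw [IsIso.inv_comp_eq, ← Category.assoc, ← Functor.id_map (C := Sheaf K (Type u)) f.left]
            erw [f.w]
            rw [Category.assoc, ← ρ.map_comp, IsIso.hom_inv_id, ρ.map_id, Category.comp_id] },
    by ext <;> simp, by ext <;> simp⟩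

end comma

end Groth.Agent.SubTopos.Giraud
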