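import Groth.Agent.SubTopos.GiraudTransfer
import Groth.Agent.SubTopos.SiteLemmas

/-!
Covering families of sheaves of sets: representable generators, descent.
-/

universe w v u

set_option synthInstance.maxHeartbeats 20000
set_option maxHeartbeats 400000

open CategoryTheory CategoryTheory.Limits Opposite

namespace Groth.Agent.SubTopos.CanTopos

open Giraud

variable {C : Type u} [SmallCategory C] {J : GrothendieckTopology C}

variable (J) in
/-- the sheaf associated to a representable -/
noncomputable abbrev ay (c : C) : Sheaf J (Type u) := (presheafToSheaf J (Type u)).obj (yoneda.obj c)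

variable (J) in
/-- maps out of `ay c` are sections over `c` -/
noncomputable def rp (c : C) (F : Sheaf J (Type u)) : (ay J c ⟶ F) ≃ F.obj.obj (op c) :=
  ((sheafificationAdjunction J (Type u)).homEquiv _ _).trans yonedaEquiv

theorem rp_comp {c : C} {F F' : Sheaf J (Type u)} (g : ay J c ⟶ F) (φ : F ⟶ F') :
    rp J c F' (g ≫ φ) = φ.hom.app (op c) (rp J c F g) := by
  simp only [rp, Equiv.trans_apply, Adjunction.homEquiv_naturality_right, yonedaEquiv_comp]
  rfl

theorem rp_map {c c' : C} (h : c' ⟶ c) {F : Sheaf J (Type u)} (g : ay J c ⟶ F) :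
    rp J c' F ((presheafToSheaf J (Type u)).map (yoneda.map h) ≫ g) = F.obj.map h.op (rp J c F g) := by
  simp only [rp, Equiv.trans_apply, Adjunction.homEquiv_naturality_left]
  exact (yonedaEquiv_naturality _ h).symm

variable (J) in
theorem detecting : (ObjectProperty.ofObj fun c : C => ay J c).IsDetecting := by
  refine fun P Q φ h => SiteLemmas.isDetecting J Set.univ
    (fun X => ⟨PUnit, fun _ => X, fun _ => 𝟙 X, ?_, fun _ => trivial⟩) φ fun A hA g => ?_
  · refine J.superset_covering ?_ (J.top_mem X)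
    intro Y f _
    exact ⟨X, f, 𝟙 X, ⟨⟨⟩⟩, Category.comp_id f⟩
  · obtain ⟨X⟩ := hA
    exact h _ (ObjectProperty.ofObj_apply _ (X : C)) g

theorem cov_of_epiFamily {ι : Type u} {G : ι → Sheaf J (Type u)} {H : Sheaf J (Type u)} {g : ∀ i, G i ⟶ H}
    (h : SGA4.IsEpiFamily g) : Cov g := by
  intro Z m _ hm
  haveI : Epi m := ⟨fun {W} a b hab => h W a b fun i => by
    obtain ⟨l, hl⟩ := hm i
    rw [← hl, Category.assoc, hab, Category.assoc]⟩
  exact isIso_of_mono_of_epi m

theorem epiFamily_of_cov {ι : Type u} {G : ι → Sheaf J (Type u)} {H : Sheaf J (Type u)} {g : ∀ i, G i ⟶ H}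
    (h : Cov g) : SGA4.IsEpiFamily g := fun _ _ _ e => h.hom_ext e

/-- descent along a covering family, tested on fibre products -/
theorem glue {ι : Type u} {G : ι → Sheaf J (Type u)} {H : Sheaf J (Type u)} {g : ∀ i, G i ⟶ H}
    (h : Cov g) {Z : Sheaf J (Type u)} (z : ∀ i, G i ⟶ Z)
    (hz : ∀ i j, pullback.fst (g i) (g j) ≫ z i = pullback.snd (g i) (g j) ≫ z j) :
    ∃! d, ∀ i, g i ≫ d = z i := by
  refine h.existsUnique_desc (detecting J) z fun c i j a b hab => ?_
  rw [← pullback.lift_fst a b hab, Category.assoc, hz, ← Category.assoc, pullback.lift_snd]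

theorem epi_elements (P : Cᵒᵖ ⥤ Type u) :
    SGA4.IsEpiFamily (G := fun p : Σ c : C, P.obj (op c) => ay J p.1) (H := (presheafToSheaf J (Type u)).obj P)
      fun p => (presheafToSheaf J (Type u)).map (yonedaEquiv.symm p.2) := by
  intro Z a b h
  refine ((sheafificationAdjunction J (Type u)).homEquiv _ _).injective ?_
  ext ⟨c⟩ x
  have := congrArg (rp J c Z) (h ⟨c, x⟩)
  simp only [rp, Equiv.trans_apply, Adjunction.homEquiv_naturality_left, yonedaEquiv_comp,
    Equiv.apply_symm_apply] at this
  exact this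

theorem cov_sections (F : Sheaf J (Type u)) :
    Cov fun p : Σ c : C, F.obj.obj (op c) => (rp J p.1 F).symm p.2 := by
  refine cov_of_epiFamily fun Z a b h => ?_
  ext ⟨c⟩ x
  have := congrArg (rp J c Z) (h ⟨c, x⟩)
  simp only [rp_comp, Equiv.apply_symm_apply] at this
  exact this

/-- the members of a family, as maps of associated sheaves -/
noncomputable abbrev am {X Y : C} (f : Y ⟶ X) : ay J Y ⟶ ay J X := (presheafToSheaf J (Type u)).map (yoneda.map f)

theorem cov_sieve {X : C} {S : Sieve X} (hS : S ∈ J X) :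
    Cov fun p : Σ Y : C, {f : Y ⟶ X // S f} => am (J := J) p.2.1 := by
  refine cov_of_epiFamily fun Z a b h => ?_
  refine (rp J X Z).injective ?_
  refine (((isSheaf_iff_isSheaf_of_type _ _).1 Z.property) S hS).isSeparatedFor.ext fun Y f hf => ?_
  rw [← rp_map, ← rp_map]
  exact congrArg (rp J Y Z) (h ⟨Y, f, hf⟩)

theorem cov_ofArrows {X : C} {ι : Type u} (Y : ι → C) (s : ∀ i, Y i ⟶ X) (h : Sieve.ofArrows Y s ∈ J X) :
    Cov fun i => am (J := J) (s i) := by
  refine cov_of_epiFamily fun Z a b e => (cov_sieve h).hom_ext ?_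
  rintro ⟨W, f, _, t, _, ⟨i⟩, rfl⟩
  simp only [am, Functor.map_comp, Category.assoc]
  exact congrArg (_ ≫ ·) (e i)

end Groth.Agent.SubTopos.CanTopos
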