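import Groth.Agent.SubTopos.Giraud
import Groth.Agent.SubTopos.GiraudEquiv

/-!
Giraud's axioms pass along jointly conservative exact functors; functor categories and glued categories are topoi.
-/

universe w v v' u

set_option synthInstance.maxHeartbeats 20000
set_option maxHeartbeats 400000

open CategoryTheory CategoryTheory.Limits Opposite

namespace Groth.Agent.SubTopos.Giraud

instance (priority := high) sheafColimits {C : Type u} [SmallCategory C] (J : GrothendieckTopology C) :
    HasColimitsOfSize.{u, u} (Sheaf J (Type u)) :=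
  ⟨fun _ _ => ⟨fun _ => HasColimit.mk
    ⟨Sheaf.sheafifyCocone (colimit.cocone _), Sheaf.isColimitSheafifyCocone _ (colimit.isColimit _)⟩⟩⟩

instance (priority := high) sheafColimitsShape {C : Type u} [SmallCategory C] (J : GrothendieckTopology C)
    {I : Type u} [SmallCategory I] : HasColimitsOfShape I (Sheaf J (Type u)) :=
  (sheafColimits J).has_colimits_of_shape I

instance sheafAx {C : Type u} [SmallCategory C] (J : GrothendieckTopology C) : Ax (Sheaf J (Type u)) :=
  ⟨disjointUniversal J, fun _ _ p₁ p₂ h => effective J p₁ p₂ h⟩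

theorem univ_of_isColimit {E : Type v} [Category.{u} E] [HasFiniteLimits E] [Ax E] {ι : Type u}
    {K : Discrete ι ⥤ E} {c : Cocone K} (hc : IsColimit c) : IsUniversalColimit c := by
  have h := (univ fun i => K.obj ⟨i⟩).precompose_isIso (Discrete.natIsoFunctor (F := K)).hom
  have hc' : IsColimit ((Cocone.precompose (Discrete.natIsoFunctor (F := K)).hom).obj
      (colimit.cocone (Discrete.functor fun i => K.obj ⟨i⟩))) :=
    (IsColimit.precomposeHomEquiv _ _).symm (colimit.isColimit _)
  exact h.of_iso (hc'.uniqueUpToIso hc)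

theorem isEquivRel_map {E : Type v} [Category.{u} E] [HasFiniteLimits E] {T : Type v'} [Category.{u} T]
    [HasFiniteLimits T] (F : E ⥤ T) [PreservesFiniteLimits F] {R A : E} {p₁ p₂ : R ⟶ A}
    (h : SGA4.IsEquivRel p₁ p₂) : SGA4.IsEquivRel (F.map p₁) (F.map p₂) := by
  obtain ⟨r, hr₁, hr₂⟩ := (h A).2.refl (𝟙 A)
  obtain ⟨s, hs₁, hs₂⟩ := (h R).2.symm (x := p₁) (y := p₂) ⟨𝟙 R, Category.id_comp _, Category.id_comp _⟩
  obtain ⟨t, ht₁, ht₂⟩ := (h (pullback p₂ p₁)).2.trans (x := pullback.fst p₂ p₁ ≫ p₁) (y := pullback.fst p₂ p₁ ≫ p₂)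
    (z := pullback.snd p₂ p₁ ≫ p₂) ⟨pullback.fst _ _, rfl, rfl⟩ ⟨pullback.snd _ _, pullback.condition.symm, rfl⟩
  haveI : Mono (prod.lift p₁ p₂) := ⟨fun {Y} a b hab => (h Y).1 (Prod.ext
    (by simpa only [Category.assoc, prod.lift_fst] using congrArg (· ≫ prod.fst) hab)
    (by simpa only [Category.assoc, prod.lift_snd] using congrArg (· ≫ prod.snd) hab))⟩
  haveI : Mono (F.map (prod.lift p₁ p₂) ≫ prodComparison F A A) := inferInstance
  intro Y
  refine ⟨fun a b hab => (cancel_mono (F.map (prod.lift p₁ p₂) ≫ prodComparison F A A)).1 ?_, ?_⟩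
  · apply prod.hom_ext
    · simp only [Category.assoc, prodComparison_fst, ← F.map_comp, prod.lift_fst]
      exact congrArg Prod.fst hab
    · simp only [Category.assoc, prodComparison_snd, ← F.map_comp, prod.lift_snd]
      exact congrArg Prod.snd hab
  · refine ⟨fun a => ⟨a ≫ F.map r, ?_, ?_⟩, ?_, ?_⟩
    · rw [Category.assoc, ← F.map_comp, hr₁, F.map_id, Category.comp_id]
    · rw [Category.assoc, ← F.map_comp, hr₂, F.map_id, Category.comp_id]
    · rintro x y ⟨f, rfl, rfl⟩
      exact ⟨f ≫ F.map s, by rw [Category.assoc, ← F.map_comp, hs₁], by rw [Category.assoc, ← F.map_comp, hs₂]⟩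
    · rintro x y z ⟨f, rfl, hy⟩ ⟨g, hg, rfl⟩
      have hpb := (IsPullback.of_hasPullback p₂ p₁).map F
      refine ⟨hpb.lift f g (hy.trans hg.symm) ≫ F.map t, ?_, ?_⟩
      · rw [Category.assoc, ← F.map_comp, ht₁, F.map_comp, hpb.lift_fst_assoc]
      · rw [Category.assoc, ← F.map_comp, ht₂, F.map_comp, hpb.lift_snd_assoc]

section transfer

variable {E : Type v} [Category.{u} E] [HasFiniteLimits E] [HasColimitsOfSize.{u, u} E] {α : Type w}
  {T : α → Type v'} [∀ a, Category.{u} (T a)] [∀ a, HasFiniteLimits (T a)] [∀ a, Ax (T a)]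
  (F : ∀ a, E ⥤ T a) [∀ a, PreservesFiniteLimits (F a)] [∀ a, PreservesColimitsOfSize.{u, u} (F a)]
  (hF : ∀ ⦃X Y : E⦄ (f : X ⟶ Y), (∀ a, IsIso ((F a).map f)) → IsIso f)

include F hF

theorem isPullback_of_map {P X Y Z : E} {f : P ⟶ X} {g : P ⟶ Y} {h : X ⟶ Z} {i : Y ⟶ Z} (w : f ≫ h = g ≫ i)
    (hp : ∀ a, IsPullback ((F a).map f) ((F a).map g) ((F a).map h) ((F a).map i)) : IsPullback f g h i := by
  haveI : IsIso (pullback.lift f g w) := hF _ fun a => by
    have h0 := (IsPullback.of_hasPullback h i).map (F a)
    have he : (F a).map (pullback.lift f g w) = ((hp a).isoIsPullback _ _ h0).hom := by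
      apply h0.hom_ext
      · rw [IsPullback.isoIsPullback_hom_fst, ← (F a).map_comp, pullback.lift_fst]
      · rw [IsPullback.isoIsPullback_hom_snd, ← (F a).map_comp, pullback.lift_snd]
    rw [he]; infer_instance
  exact (IsPullback.of_hasPullback h i).of_iso (asIso (pullback.lift f g w)).symm (Iso.refl _) (Iso.refl _)
    (Iso.refl _) (by simp only [Iso.symm_hom, asIso_inv, Iso.refl_hom, Category.comp_id, IsIso.eq_inv_comp, pullback.lift_fst])
    (by simp only [Iso.symm_hom, asIso_inv, Iso.refl_hom, Category.comp_id, IsIso.eq_inv_comp, pullback.lift_snd]) (by simp) (by simp)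

theorem axOfJointly : Ax E where
  coprod ι X := by
    let c : Cofan X := colimit.cocone _
    have hc : IsColimit c := colimit.isColimit _
    have hca : ∀ a, IsColimit (Cofan.mk ((F a).obj c.pt) fun i => (F a).map (c.inj i)) := fun a =>
      isColimitCofanMkObjOfIsColimit (F a) _ _
        (IsColimit.ofIsoColimit hc (Cofan.ext (Iso.refl _) (by simp [Cofan.inj])))
    haveI : ∀ i, Mono (c.inj i) := fun i => by
      rw [mono_iff_isPullback]
      refine isPullback_of_map F hF rfl fun a => ?_
      haveI : Mono ((F a).map (c.inj i)) := Mono.of_coproductDisjoint (hca a) i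
      rw [(F a).map_id]
      exact (mono_iff_isPullback _).1 inferInstance
    refine ⟨c, hc, ?_, ?_⟩
    · have hini : ∀ {i j : ι}, i ≠ j → ∃ h : IsInitial (pullback (c.inj i) (c.inj j)), True := by
        intro i j hij
        haveI : IsIso (initial.to (pullback (c.inj i) (c.inj j))) := hF _ fun a => by
          have h2 := ((IsPullback.of_hasPullback (c.inj i) (c.inj j)).map (F a))
          have h3 : IsInitial ((F a).obj (pullback (c.inj i) (c.inj j))) :=
            IsInitial.ofCoproductDisjointOfIsColimitOfIsLimit hij (hca a) h2.isLimit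
          exact isIso_of_isInitial (initialIsInitial.isInitialObj (F a) _) h3 _
        exact ⟨initialIsInitial.ofIso (asIso (initial.to (pullback (c.inj i) (c.inj j)))), trivial⟩
      exact CoproductDisjoint.of_cofan hc (fun {i j} _ => pullback.cone (c.inj i) (c.inj j))
        (fun _ => pullback.isLimit _ _) (fun h => (hini h).choose)
    · intro F' c' β f h hβ H
      let d := colimit.desc F' c'
      haveI : IsIso d := hF _ fun a => by
        obtain ⟨hc'⟩ := univ_of_isColimit (isColimitOfPreserves (F a) hc) ((F a).mapCocone c')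
          (Functor.whiskerRight β (F a)) ((F a).map f)
          (by
            ext j
            show (F a).map (β.app j) ≫ (F a).map (c.ι.app j) = (F a).map (c'.ι.app j) ≫ (F a).map f
            rw [← (F a).map_comp, ← (F a).map_comp]
            exact congrArg (F a).map (NatTrans.congr_app h j))
          (hβ.whiskerRight _) (fun j => (H j).map (F a))
        have h0 := isColimitOfPreserves (F a) (colimit.isColimit F')
        have he : (F a).map d = (h0.coconePointUniqueUpToIso hc').hom := by
          refine h0.hom_ext fun j => ?_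
          rw [IsColimit.comp_coconePointUniqueUpToIso_hom]
          show (F a).map (colimit.ι F' j) ≫ (F a).map d = (F a).map (c'.ι.app j)
          rw [← (F a).map_comp, colimit.ι_desc]
        rw [he]; infer_instance
      exact ⟨IsColimit.ofIsoColimit (colimit.isColimit F') (Cocone.ext (asIso d) fun j => colimit.ι_desc c' j)⟩
  eff R A p₁ p₂ h := by
    obtain ⟨r, hr₁, hr₂⟩ := (h A).2.refl (𝟙 A)
    let π := coequalizer.π p₁ p₂
    have hpush : IsPushout p₁ p₂ π π := by
      have h12 : ∀ s : PushoutCocone p₁ p₂, s.inl = s.inr := fun s => by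
        have := congrArg (r ≫ ·) s.condition
        simpa only [← Category.assoc, hr₁, hr₂, Category.id_comp] using this
      exact IsPushout.of_isColimit (c := PushoutCocone.mk π π (coequalizer.condition _ _))
        (PushoutCocone.IsColimit.mk _ (fun s => coequalizer.desc s.inl (by rw [s.condition, h12 s]))
          (fun s => coequalizer.π_desc _ _) (fun s => (coequalizer.π_desc _ _).trans (h12 s))
          (fun s m hm _ => coequalizer.hom_ext (hm.trans (coequalizer.π_desc _ _).symm)))
    have hT : ∀ a, IsPullback ((F a).map p₁) ((F a).map p₂) ((F a).map π) ((F a).map π) ∧ Good ((F a).map π) := by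
      intro a
      obtain ⟨B', π', h1, h2, h3⟩ := exists_quotient (isEquivRel_map (F a) h)
      let e := h2.isoIsPushout _ _ (hpush.map (F a))
      have he : π' ≫ e.hom = (F a).map π := IsPushout.inl_isoIsPushout_hom _ _ _ _
      refine ⟨h1.of_iso (Iso.refl _) (Iso.refl _) (Iso.refl _) e (by simp) (by simp) (by simp [he]) (by simp [he]),
        ⟨fun {P B''} u b g hp => h3.eff u b (g ≫ e.inv) ?_⟩⟩
      exact hp.of_iso (Iso.refl _) (Iso.refl _) (Iso.refl _) e.symm (by simp) (by simp) (by simp [← he]) (by simp)
    refine ⟨_, π, isPullback_of_map F hF (coequalizer.condition _ _) fun a => (hT a).1, hpush, fun B' g => ?_⟩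
    let b := pullback.snd π g
    let k₁ := pullback.fst b b
    let k₂ := pullback.snd b b
    let d : coequalizer k₁ k₂ ⟶ B' := coequalizer.desc b pullback.condition
    haveI : IsIso d := hF _ fun a => by
      haveI hb : EffectiveEpi ((F a).map b) := (hT a).2.eff _ _ _ ((IsPullback.of_hasPullback π g).map (F a))
      haveI : Epi ((F a).map b) := @epi_of_effectiveEpi _ _ _ _ _ hb
      have hd : (F a).map (coequalizer.π k₁ k₂) ≫ (F a).map d = (F a).map b := by
        rw [← (F a).map_comp, coequalizer.π_desc]
      haveI : Epi ((F a).map (coequalizer.π k₁ k₂)) := inferInstance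
      let i : (F a).obj B' ⟶ (F a).obj (coequalizer k₁ k₂) :=
        EffectiveEpi.desc ((F a).map b) ((F a).map (coequalizer.π k₁ k₂)) fun g₁ g₂ hg => by
          let l := ((IsPullback.of_hasPullback b b).map (F a)).lift g₁ g₂ hg
          have e₁ : l ≫ (F a).map k₁ = g₁ := IsPullback.lift_fst _ _ _ _
          have e₂ : l ≫ (F a).map k₂ = g₂ := IsPullback.lift_snd _ _ _ _
          rw [← e₁, ← e₂, Category.assoc, Category.assoc, ← (F a).map_comp, ← (F a).map_comp, coequalizer.condition]
      refine ⟨i, ?_, ?_⟩
      · rw [← cancel_epi ((F a).map (coequalizer.π k₁ k₂)), reassoc_of% hd, EffectiveEpi.fac, Category.comp_id]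
      · rw [← cancel_epi ((F a).map b), EffectiveEpi.fac_assoc, hd, Category.comp_id]
    exact ⟨⟨
      { desc := fun k hk => inv d ≫ coequalizer.desc k (hk _ _ pullback.condition)
        fac := fun k hk => by
          refine (congrArg (· ≫ inv d ≫ coequalizer.desc k (hk _ _ pullback.condition))
            (coequalizer.π_desc (f := k₁) (g := k₂) b pullback.condition).symm).trans ?_
          rw [Category.assoc, IsIso.hom_inv_id_assoc, coequalizer.π_desc]
        uniq := fun k hk m hm => by
          rw [← cancel_epi d, IsIso.hom_inv_id_assoc]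
          apply coequalizer.hom_ext
          rw [coequalizer.π_desc, coequalizer.π_desc_assoc]
          exact hm }⟩⟩

end transfer

section functorCategory

variable {C : Type u} [SmallCategory C] (J : GrothendieckTopology C) (D : Type u) [SmallCategory D]

theorem isTopos_functor : SGA4.IsTopos (D ⥤ Sheaf J (Type u)) := by
  haveI : Ax (D ⥤ Sheaf J (Type u)) := axOfJointly (fun d : D => (evaluation D (Sheaf J (Type u))).obj d)
    (fun X Y f h => by
      haveI : ∀ d, IsIso (f.app d) := h
      exact NatIso.isIso_of_isIso_app f)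
  refine isTopos_of_detecting (G := fun p : D × C => (evaluationLeftAdjoint (Sheaf J (Type u)) p.1).obj
    ((presheafToSheaf J (Type u)).obj (yoneda.obj p.2))) ?_
  intro P Q φ h
  haveI : ∀ d, IsIso (φ.app d) := fun d => by
    haveI : ∀ X, IsIso ((φ.app d).hom.app X) := fun X => by
      rw [isIso_iff_bijective]
      let e : ∀ R : D ⥤ Sheaf J (Type u),
          ((evaluationLeftAdjoint (Sheaf J (Type u)) d).obj ((presheafToSheaf J (Type u)).obj (yoneda.obj X.unop)) ⟶ R) ≃
            (R.obj d).obj.obj X := fun R =>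
        ((evaluationAdjunctionRight (Sheaf J (Type u)) d).homEquiv _ _).trans
          (((sheafificationAdjunction J (Type u)).homEquiv _ _).trans yonedaEquiv)
      have he : ∀ g, e Q (g ≫ φ) = (φ.app d).hom.app X (e P g) := by
        intro g
        simp only [e, Equiv.trans_apply, Adjunction.homEquiv_naturality_right]
        erw [Adjunction.homEquiv_naturality_right, yonedaEquiv_comp]
        try rfl
      constructor
      · intro a b hab
        obtain ⟨g₁, rfl⟩ := (e P).surjective a
        obtain ⟨g₂, rfl⟩ := (e P).surjective b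
        rw [← he, ← he] at hab
        obtain ⟨g, -, hu⟩ := h _ (ObjectProperty.ofObj_apply _ (d, X.unop)) (g₁ ≫ φ)
        rw [hu g₁ rfl, hu g₂ ((e Q).injective hab).symm]
      · intro y
        obtain ⟨g₀, rfl⟩ := (e Q).surjective y
        obtain ⟨g, hg, -⟩ := h _ (ObjectProperty.ofObj_apply _ (d, X.unop)) g₀
        exact ⟨e P g, by rw [← he, hg]⟩
    haveI : IsIso (φ.app d).hom := NatIso.isIso_of_isIso_app _
    exact @isIso_of_reflects_iso _ _ _ _ _ _ (φ.app d) (sheafToPresheaf J (Type u)) (inferInstanceAs (IsIso (φ.app d).hom)) _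
  exact NatIso.isIso_of_isIso_app φ

end functorCategory

theorem isTopos_functor_of_isTopos {E : Type v} [Category.{u} E] (hE : SGA4.IsTopos E) (D : Type u)
    [SmallCategory D] : SGA4.IsTopos (D ⥤ E) := by
  obtain ⟨C, _, J, ⟨e⟩⟩ := hE
  obtain ⟨C', _, J', ⟨e'⟩⟩ := isTopos_functor J D
  exact ⟨C', inferInstance, J', ⟨(e.congrRight).trans e'⟩⟩

end Groth.Agent.SubTopos.Giraud
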