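import Mathlib
import Groth.Prelude.Def_SGA4a

/-!
The closed complement of a subterminal object in an adhesive category: `X ↦ U ⨿_{U × X} X`.
-/

universe w v u

open CategoryTheory CategoryTheory.Limits

namespace Groth.Agent.SubTopos

variable {E : Type v} [Category.{u} E] [HasBinaryProducts E] {U : E}

section Subterminal

variable (hU : ∀ {T : E} (a b : T ⟶ U), a = b)

include hU

theorem mono_snd (X : E) : Mono (prod.snd : U ⨯ X ⟶ X) :=
  ⟨fun _ _ h => prod.hom_ext (hU _ _) h⟩

/-- the map from `U` to an object of the closed complement -/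
theorem uniq_hom {Y : E} (hY : SGA4.closedCompl U Y) (a b : U ⟶ Y) : a = b := by
  haveI : IsIso (prod.fst : U ⨯ Y ⟶ U) := hY
  have h : prod.lift (𝟙 U) a = prod.lift (𝟙 U) b := by
    rw [← cancel_mono (prod.fst : U ⨯ Y ⟶ U), prod.lift_fst, prod.lift_fst]
  rw [← prod.lift_snd (𝟙 U) a, h, prod.lift_snd]

theorem eq_of_closed {Y T : E} (hY : SGA4.closedCompl U Y) (t : T ⟶ U) (a b : T ⟶ Y) : a = b := by
  haveI : IsIso (prod.fst : U ⨯ Y ⟶ U) := hY
  have h : prod.lift t a = prod.lift t b := by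
    rw [← cancel_mono (prod.fst : U ⨯ Y ⟶ U), prod.lift_fst, prod.lift_fst]
  rw [← prod.lift_snd t a, h, prod.lift_snd]

theorem isIso_snd_of_hom {Z : E} (t : Z ⟶ U) : IsIso (prod.snd : U ⨯ Z ⟶ Z) :=
  ⟨prod.lift t (𝟙 Z), prod.hom_ext (hU _ _) (by rw [Category.assoc, prod.lift_snd, Category.comp_id, Category.id_comp]), prod.lift_snd _ _⟩

end Subterminal

/-- the map `U ⟶ Y` for `Y` in the closed complement -/
noncomputable def homOfClosed {Y : E} (hY : SGA4.closedCompl U Y) : U ⟶ Y :=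
  haveI : IsIso (prod.fst : U ⨯ Y ⟶ U) := hY
  inv (prod.fst : U ⨯ Y ⟶ U) ≫ prod.snd

theorem closed_of_iso {X Y : E} (e : X ≅ Y) (hX : SGA4.closedCompl U X) : SGA4.closedCompl U Y := by
  haveI : IsIso (prod.fst : U ⨯ X ⟶ U) := hX
  show IsIso (prod.fst : U ⨯ Y ⟶ U)
  rw [show (prod.fst : U ⨯ Y ⟶ U) = prod.map (𝟙 U) e.inv ≫ prod.fst by simp]
  infer_instance

theorem isPullback_map (U : E) {X Y : E} (f : X ⟶ Y) :
    IsPullback (prod.map (𝟙 U) f) (prod.snd : U ⨯ X ⟶ X) (prod.snd : U ⨯ Y ⟶ Y) f :=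
  IsPullback.of_isLimit' ⟨prod.map_snd _ _⟩ <| PullbackCone.IsLimit.mk _
    (fun s => prod.lift (s.fst ≫ prod.fst) s.snd)
    (fun s => prod.hom_ext (by rw [Category.assoc, prod.map_fst, prod.lift_fst_assoc, Category.comp_id])
      (by rw [Category.assoc, prod.map_snd, prod.lift_snd_assoc]; exact s.condition.symm))
    (fun s => prod.lift_snd _ _)
    (fun s m h1 h2 => prod.hom_ext (by rw [prod.lift_fst, ← h1, Category.assoc, prod.map_fst, Category.comp_id])
      (by rw [prod.lift_snd, h2]))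

variable [Adhesive E] [HasPullbacks E] [HasPushouts E]

/-- `X_CU` -/
noncomputable abbrev cU (U X : E) : E := pushout (prod.fst : U ⨯ X ⟶ U) (prod.snd : U ⨯ X ⟶ X)

noncomputable abbrev inl (U X : E) : U ⟶ cU U X := pushout.inl _ _

noncomputable abbrev inr (U X : E) : X ⟶ cU U X := pushout.inr _ _

variable (hU : ∀ {T : E} (a b : T ⟶ U), a = b)

include hU

theorem isVanKampen (X : E) :
    (IsPushout.of_hasPushout (prod.fst : U ⨯ X ⟶ U) (prod.snd : U ⨯ X ⟶ X)).IsVanKampen :=
  haveI := mono_snd hU X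
  Adhesive.van_kampen' _

theorem closed_cU (X : E) : SGA4.closedCompl U (cU U X) := by
  refine ⟨prod.lift (𝟙 U) (inl U X), ?_, prod.lift_fst _ _⟩
  refine prod.hom_ext (by rw [Category.assoc, prod.lift_fst, Category.comp_id, Category.id_comp]) ?_
  rw [Category.assoc, prod.lift_snd, Category.id_comp]
  refine IsPushout.isVanKampen_isPullback_isPullback_hom_ext (isVanKampen hU X)
    (isPullback_map U (inl U X)) (isPullback_map U (inr U X)) ?_ ?_
  · simp only [prod.map_fst_assoc, Category.id_comp, prod.map_snd]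
    exact congrArg (· ≫ inl U X) (hU _ _)
  · simp only [prod.map_fst_assoc, Category.id_comp, prod.map_snd]
    exact pushout.condition

/-- the extension of `f : X ⟶ Y` to `X_CU` -/
noncomputable def desc {X Y : E} (hY : SGA4.closedCompl U Y) (f : X ⟶ Y) : cU U X ⟶ Y :=
  pushout.desc (homOfClosed hY) f (eq_of_closed hU hY prod.fst _ _)

@[reassoc]
theorem inr_desc {X Y : E} (hY : SGA4.closedCompl U Y) (f : X ⟶ Y) : inr U X ≫ desc hU hY f = f :=
  pushout.inr_desc _ _ _

theorem cU_hom_ext {X Y : E} (hY : SGA4.closedCompl U Y) {a b : cU U X ⟶ Y}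
    (h : inr U X ≫ a = inr U X ≫ b) : a = b :=
  pushout.hom_ext (uniq_hom hU hY _ _) h

theorem closed_iff (X : E) : SGA4.closedCompl U X ↔ IsIso (inr U X) := by
  constructor
  · intro h
    exact ⟨desc hU h (𝟙 X), inr_desc hU h _, cU_hom_ext hU (closed_cU hU X) (by simp [inr_desc_assoc])⟩
  · intro h
    exact closed_of_iso (asIso (inr U X)).symm (closed_cU hU X)

theorem isPullback_iff {X X' : E} (m : X ⟶ X') (k : cU U X ⟶ cU U X')
    (hk₁ : inl U X ≫ k = inl U X') (hk₂ : inr U X ≫ k = m ≫ inr U X') :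
    IsPullback m (inr U X) (inr U X') k ↔ IsIso (prod.map (𝟙 U) m) := by
  constructor
  · intro h
    haveI : IsIso (prod.fst : U ⨯ cU U X ⟶ U) := closed_cU hU X
    haveI : IsIso (prod.fst : U ⨯ cU U X' ⟶ U) := closed_cU hU X'
    haveI : IsIso (prod.map (𝟙 U) k) := by
      haveI : IsIso (prod.map (𝟙 U) k ≫ (prod.fst : U ⨯ cU U X' ⟶ U)) := by
        rw [prod.map_fst, Category.comp_id]; infer_instance
      exact IsIso.of_isIso_comp_right _ (prod.fst : U ⨯ cU U X' ⟶ U)
    have h1 : IsPullback (prod.map (𝟙 U) m) (prod.map (𝟙 U) (inr U X)) (prod.map (𝟙 U) (inr U X'))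
        (prod.map (𝟙 U) k) := by
      refine IsPullback.of_bot ?_ ?_ (isPullback_map U k)
      · have := (isPullback_map U m).paste_vert h
        rwa [← prod.map_snd (𝟙 U) (inr U X), ← prod.map_snd (𝟙 U) (inr U X')] at this
      · rw [prod.map_map, prod.map_map, hk₂, Category.comp_id]
    exact h1.isIso_fst_of_isIso
  · intro h
    refine (((isVanKampen hU X') (prod.fst : U ⨯ X ⟶ U) (prod.snd : U ⨯ X ⟶ X) (inl U X) (inr U X)
      (prod.map (𝟙 U) m) (𝟙 U) m k
      (IsPullback.of_vert_isIso ⟨by simp⟩) ?_ ⟨by simp [hk₁]⟩ ⟨hk₂⟩ ⟨pushout.condition⟩).1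
        (IsPushout.of_hasPushout _ _)).2.flip
    exact (isPullback_map U m).flip

theorem isIso_of_isIso {X X' : E} (m : X ⟶ X') (k : cU U X ⟶ cU U X')
    (hk₁ : inl U X ≫ k = inl U X') (hk₂ : inr U X ≫ k = m ≫ inr U X')
    [IsIso (prod.map (𝟙 U) m)] [IsIso k] : IsIso m :=
  ((isPullback_iff hU m k hk₁ hk₂).2 inferInstance).isIso_fst_of_isIso

omit [Adhesive E] [HasPullbacks E] [HasPushouts E] [HasBinaryProducts E] in
theorem preserves_forget (I : Type w) [Nonempty I] [HasLimitsOfShape (Discrete I) E] :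
    PreservesLimitsOfShape (Discrete I) (Over.forget U) := by
  constructor
  intro K
  obtain ⟨i₀⟩ := ‹Nonempty I›
  let F := K ⋙ Over.forget U
  let c : Cone K :=
    { pt := Over.mk (limit.π F ⟨i₀⟩ ≫ (K.obj ⟨i₀⟩).hom)
      π := Discrete.natTrans fun j => Over.homMk (limit.π F j) (hU _ _) }
  refine preservesLimit_of_preserves_limit_cone (t := c) ?_ ?_
  · refine
      { lift := fun s => Over.homMk (limit.lift F ((Over.forget U).mapCone s)) (hU _ _)
        fac := fun s j => by
          ext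
          exact limit.lift_π _ _
        uniq := fun s m hm => by
          ext
          refine limit.hom_ext fun j => ?_
          exact ((congrArg CommaMorphism.left (hm j) :)).trans
            (limit.lift_π ((Over.forget U).mapCone s) j).symm }
  · exact IsLimit.ofIsoLimit (limit.isLimit F) (Cone.ext (Iso.refl _) fun j => (Category.id_comp _).symm)

end Groth.Agent.SubTopos
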