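import Mathlib
import Groth.Prelude.Def_SGA4a

/-!
Giraud's theorem, first part: images, covering families and descent in a category satisfying the axioms.
-/

universe v u

open CategoryTheory CategoryTheory.Limits

namespace Groth.Agent.SubTopos.Giraud

/-- Giraud's exactness axioms -/
class Ax (E : Type v) [Category.{u} E] [HasFiniteLimits E] : Prop where
  coprod : SGA4.HasDisjointUniversalCoproducts.{v, u} E
  eff : ∀ (R A : E) (p₁ p₂ : R ⟶ A), SGA4.IsEquivRel p₁ p₂ → SGA4.IsEffectiveUniversalEquivRel p₁ p₂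

variable {E : Type v} [Category.{u} E] [HasFiniteLimits E] [Ax E]

instance hasCoproduct {ι : Type u} (X : ι → E) : HasCoproduct X := by
  obtain ⟨c, hc, -, -⟩ := Ax.coprod ι X
  exact ⟨⟨⟨c, hc⟩⟩⟩

instance disjoint {ι : Type u} (X : ι → E) : CoproductDisjoint X := by
  obtain ⟨c, hc, h, -⟩ := Ax.coprod ι X
  exact h

theorem univ {ι : Type u} (X : ι → E) : IsUniversalColimit (colimit.cocone (Discrete.functor X)) := by
  obtain ⟨c, hc, -, h⟩ := Ax.coprod ι X
  exact h.of_iso (hc.uniqueUpToIso (colimit.isColimit _))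

/-- universality of coproducts, elementwise -/
noncomputable def isColimitPullback {ι : Type u} (X : ι → E) {T : E} (g : T ⟶ ∐ X) :
    IsColimit (Cofan.mk T fun i => pullback.fst g (Sigma.ι X i)) :=
  Nonempty.some <| univ X (Cofan.mk T fun i => pullback.fst g (Sigma.ι X i))
    (Discrete.natTrans fun i => pullback.snd g (Sigma.ι X i.as)) g
    (by ext ⟨i⟩; exact pullback.condition.symm) (NatTrans.Equifibered.of_discrete _)
    fun i => IsPullback.of_hasPullback g (Sigma.ι X i.as)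

theorem hom_ext_pullback {ι : Type u} (X : ι → E) {T Z : E} (g : T ⟶ ∐ X) {a b : T ⟶ Z}
    (h : ∀ i, pullback.fst g (Sigma.ι X i) ≫ a = pullback.fst g (Sigma.ι X i) ≫ b) : a = b :=
  Cofan.IsColimit.hom_ext (isColimitPullback X g) _ _ h

instance : HasStrictInitialObjects E := by
  refine ⟨fun {I A} f hI => ?_⟩
  let Z : PEmpty.{u + 1} → E := fun i => i.elim
  let t : A ⟶ ∐ Z := f ≫ hI.to _
  have hA : IsInitial A := IsInitial.ofUniqueHom
    (fun Y => Cofan.IsColimit.desc (isColimitPullback Z t) fun i => i.elim)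
    (fun Y m => Cofan.IsColimit.hom_ext (isColimitPullback Z t) _ _ fun i => i.elim)
  exact isIso_of_isInitial hA hI f

theorem effectiveEpi_precomp {A B C : E} (e : A ≅ B) (f : B ⟶ C) [EffectiveEpi f] : EffectiveEpi (e.hom ≫ f) := by
  have key : ∀ {W : E} (k : A ⟶ W), (∀ {Z : E} (g₁ g₂ : Z ⟶ A), g₁ ≫ e.hom ≫ f = g₂ ≫ e.hom ≫ f → g₁ ≫ k = g₂ ≫ k) →
      ∀ {Z : E} (g₁ g₂ : Z ⟶ B), g₁ ≫ f = g₂ ≫ f → g₁ ≫ e.inv ≫ k = g₂ ≫ e.inv ≫ k := by
    intro W k h Z g₁ g₂ hg
    simpa using h (g₁ ≫ e.inv) (g₂ ≫ e.inv) (by simpa using hg)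
  exact ⟨⟨
    { desc := fun k h => EffectiveEpi.desc f (e.inv ≫ k) (key k h)
      fac := fun k h => by rw [Category.assoc, EffectiveEpi.fac]; simp
      uniq := fun k h m hm => by
        refine EffectiveEpi.uniq f _ _ m ?_
        rw [← hm]; simp }⟩⟩

/-- a universal effective epimorphism -/
structure Good {A B : E} (p : A ⟶ B) : Prop where
  eff : ∀ {P B' : E} (a : P ⟶ A) (b : P ⟶ B') (g : B' ⟶ B), IsPullback a b p g → EffectiveEpi b

theorem Good.effectiveEpi {A B : E} {p : A ⟶ B} (h : Good p) : EffectiveEpi p :=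
  h.eff (𝟙 A) p (𝟙 B) (IsPullback.of_horiz_isIso ⟨by simp⟩)

theorem Good.epi {A B : E} {p : A ⟶ B} (h : Good p) : Epi p :=
  haveI := h.effectiveEpi
  inferInstance

theorem Good.pullback {A B B' : E} {p : A ⟶ B} (h : Good p) (g : B' ⟶ B) :
    EffectiveEpi (pullback.snd p g) :=
  h.eff _ _ g (IsPullback.of_hasPullback p g)

theorem isEquivRel_kernelPair {X Y : E} (f : X ⟶ Y) :
    SGA4.IsEquivRel (pullback.fst f f) (pullback.snd f f) := by
  refine fun T => ⟨fun a b h => pullback.hom_ext (congrArg Prod.fst h) (congrArg Prod.snd h), ?_⟩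
  have key : ∀ a b : T ⟶ X, (∃ g, g ≫ pullback.fst f f = a ∧ g ≫ pullback.snd f f = b) ↔ a ≫ f = b ≫ f := by
    intro a b
    constructor
    · rintro ⟨g, rfl, rfl⟩
      rw [Category.assoc, Category.assoc, pullback.condition]
    · intro h
      exact ⟨pullback.lift a b h, pullback.lift_fst _ _ _, pullback.lift_snd _ _ _⟩
  refine ⟨fun a => (key a a).2 rfl, fun h => (key _ _).2 ((key _ _).1 h).symm, fun h h' => ?_⟩
  exact (key _ _).2 (((key _ _).1 h).trans ((key _ _).1 h'))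

/-- every relation quotient is good -/
theorem exists_quotient {R A : E} {p₁ p₂ : R ⟶ A} (h : SGA4.IsEquivRel p₁ p₂) :
    ∃ (B : E) (π : A ⟶ B), IsPullback p₁ p₂ π π ∧ IsPushout p₁ p₂ π π ∧ Good π := by
  obtain ⟨B, π, h1, h2, h3⟩ := Ax.eff R A p₁ p₂ h
  refine ⟨B, π, h1, h2, ⟨fun {P B'} a b g hpb => ?_⟩⟩
  haveI := h3 B' g
  rw [← hpb.isoPullback_hom_snd]
  exact effectiveEpi_precomp _ _

theorem exists_image {X Y : E} (f : X ⟶ Y) :
    ∃ (I : E) (π : X ⟶ I) (m : I ⟶ Y), π ≫ m = f ∧ Mono m ∧ Good π := by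
  obtain ⟨I, π, h1, h2, h3⟩ := exists_quotient (isEquivRel_kernelPair f)
  let m := h2.desc f f pullback.condition
  have hm : π ≫ m = f := h2.inl_desc _ _ _
  refine ⟨I, π, m, hm, ⟨fun {T} a b hab => ?_⟩, h3⟩
  haveI := h3.pullback a
  haveI := h3.pullback (pullback.snd π a ≫ b)
  haveI : Epi (pullback.snd π (pullback.snd π a ≫ b) ≫ pullback.snd π a) := epi_comp _ _
  rw [← cancel_epi (pullback.snd π (pullback.snd π a ≫ b) ≫ pullback.snd π a)]
  let a₂ := pullback.snd π (pullback.snd π a ≫ b) ≫ pullback.fst π a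
  let b₂ := pullback.fst π (pullback.snd π a ≫ b)
  have ea : a₂ ≫ π = (pullback.snd π (pullback.snd π a ≫ b) ≫ pullback.snd π a) ≫ a := by
    simp only [a₂, Category.assoc, pullback.condition]
  have eb : b₂ ≫ π = (pullback.snd π (pullback.snd π a ≫ b) ≫ pullback.snd π a) ≫ b := by
    simp only [b₂, pullback.condition, Category.assoc]
  have e : a₂ ≫ f = b₂ ≫ f := by
    rw [← hm, ← Category.assoc, ← Category.assoc, ea, eb, Category.assoc _ a, Category.assoc _ b, hab]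
  have := pullback.lift_fst a₂ b₂ e
  rw [← ea, ← eb, ← pullback.lift_fst a₂ b₂ e, Category.assoc, h1.w, pullback.lift_snd_assoc]

/-- a jointly covering family -/
def Cov {ι : Type u} {Y : ι → E} {X : E} (f : ∀ i, Y i ⟶ X) : Prop :=
  ∀ ⦃Z : E⦄ (m : Z ⟶ X) [Mono m], (∀ i, ∃ g, g ≫ m = f i) → IsIso m

theorem Cov.good {ι : Type u} {Y : ι → E} {X : E} {f : ∀ i, Y i ⟶ X} (h : Cov f) : Good (Sigma.desc f) := by
  obtain ⟨I, π, m, hm, hmono, hπ⟩ := exists_image (Sigma.desc f)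
  haveI : IsIso m := h m fun i => ⟨Sigma.ι Y i ≫ π, by rw [Category.assoc, hm, Sigma.ι_desc]⟩
  constructor
  intro P B' a b g hpb
  refine hπ.eff a b (g ≫ inv m) ?_
  have h2 : IsPullback (π : (∐ Y) ⟶ I) (𝟙 _) m (Sigma.desc f) :=
    IsPullback.of_vert_isIso_mono ⟨by simp [hm]⟩
  exact IsPullback.of_iso hpb (Iso.refl _) (Iso.refl _) (Iso.refl _) (asIso m).symm (by simp) (by simp)
    (by rw [Iso.refl_hom, Category.id_comp, Iso.symm_hom, asIso_inv, IsIso.comp_inv_eq, hm])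
    (by simp)

theorem Cov.hom_ext {ι : Type u} {Y : ι → E} {X : E} {f : ∀ i, Y i ⟶ X} (h : Cov f) {Z : E} {a b : X ⟶ Z}
    (e : ∀ i, f i ≫ a = f i ≫ b) : a = b := by
  haveI := h.good.epi
  rw [← cancel_epi (Sigma.desc f)]
  exact Sigma.hom_ext _ _ fun i => by simpa using e i

theorem cov_ι {ι : Type u} (Y : ι → E) : Cov (Sigma.ι Y) := by
  intro Z m _ h
  choose g hg using h
  haveI : IsSplitEpi m := ⟨⟨Sigma.desc g, Sigma.hom_ext _ _ fun i => by simp [hg]⟩⟩
  exact isIso_of_mono_of_isSplitEpi m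

theorem cov_good {A B : E} {p : A ⟶ B} (h : Good p) : Cov (fun _ : PUnit.{u + 1} => p) := by
  intro Z m _ hf
  obtain ⟨g, hg⟩ := hf ⟨⟩
  haveI : StrongEpi (g ≫ m) := by
    rw [hg]
    haveI := h.effectiveEpi
    infer_instance
  haveI : StrongEpi m := strongEpi_of_strongEpi g m
  exact isIso_of_mono_of_strongEpi m

theorem Cov.trans {ι : Type u} {Y : ι → E} {X : E} {f : ∀ i, Y i ⟶ X} (h : Cov f) {κ : Type u} {W : κ → E}
    (q : ∀ k, W k ⟶ X)
    (hq : ∀ i, ∃ (α : Type u) (V : α → E) (r : ∀ a, V a ⟶ Y i), Cov r ∧ ∀ a, ∃ k s, s ≫ q k = r a ≫ f i) :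
    Cov q := by
  intro Z m _ hm
  refine h m fun i => ?_
  obtain ⟨α, V, r, hr, hk⟩ := hq i
  haveI : IsIso (pullback.snd m (f i)) := hr _ fun a => by
    obtain ⟨k, s, hs⟩ := hk a
    obtain ⟨g, hg⟩ := hm k
    exact ⟨pullback.lift (s ≫ g) (r a) (by rw [Category.assoc, hg, hs]), pullback.lift_snd _ _ _⟩
  exact ⟨inv (pullback.snd m (f i)) ≫ pullback.fst m (f i), by
    rw [Category.assoc, pullback.condition, IsIso.inv_hom_id_assoc]⟩

theorem Cov.pullback {ι : Type u} {Y : ι → E} {X : E} {f : ∀ i, Y i ⟶ X} (h : Cov f) {X' : E} (g : X' ⟶ X) :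
    Cov fun i => pullback.fst g (f i) := by
  intro Z m _ hm
  choose k hk using hm
  haveI := h.good.pullback g
  let T := CategoryTheory.Limits.pullback (Sigma.desc f) g
  let e : T ⟶ X' := pullback.snd (Sigma.desc f) g
  let t : T ⟶ ∐ Y := pullback.fst (Sigma.desc f) g
  let l : ∀ i, CategoryTheory.Limits.pullback t (Sigma.ι Y i) ⟶ Z := fun i =>
    pullback.lift (pullback.fst t (Sigma.ι Y i) ≫ e) (pullback.snd t (Sigma.ι Y i)) (by
      rw [Category.assoc, ← pullback.condition (f := Sigma.desc f), ← Category.assoc, pullback.condition,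
        Category.assoc, Sigma.ι_desc]) ≫ k i
  have hl : Cofan.IsColimit.desc (isColimitPullback Y t) l ≫ m = e := hom_ext_pullback Y t fun i => by
    rw [← Category.assoc]
    refine (congrArg (· ≫ m) (Cofan.IsColimit.fac (isColimitPullback Y t) l i)).trans ?_
    simp only [l, Category.assoc, hk, pullback.lift_fst]
  haveI : StrongEpi (Cofan.IsColimit.desc (isColimitPullback Y t) l ≫ m) := by
    rw [hl]; infer_instance
  haveI : StrongEpi m := strongEpi_of_strongEpi (Cofan.IsColimit.desc (isColimitPullback Y t) l) m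
  exact isIso_of_mono_of_strongEpi m

variable {J₀ : Type u} (G : J₀ → E)

/-- all maps from the generators -/
def allMaps (T : E) : (Σ c, (G c ⟶ T)) → E := fun p => G p.1

variable {G} (hG : (ObjectProperty.ofObj G).IsDetecting)

include hG

theorem isIso_of_mono_gen {Z T : E} (m : Z ⟶ T) [Mono m] (h : ∀ c (g : G c ⟶ T), ∃ l, l ≫ m = g) : IsIso m := by
  refine hG m fun A hA g => ?_
  obtain ⟨c⟩ := hA
  obtain ⟨l, hl⟩ := h c g
  exact ⟨l, hl, fun l' hl' => (cancel_mono m).1 (hl'.trans hl.symm)⟩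

theorem cov_allMaps (T : E) : Cov (fun p : Σ c, (G c ⟶ T) => p.2) :=
  fun _ m _ h => isIso_of_mono_gen hG m fun c g => h ⟨c, g⟩

theorem gen_hom_ext {T Z : E} {a b : T ⟶ Z} (h : ∀ c (g : G c ⟶ T), g ≫ a = g ≫ b) : a = b :=
  (cov_allMaps hG T).hom_ext fun p => h p.1 p.2

theorem factors_of_gen {Z W T : E} (r : Z ⟶ W) [Mono r] (x : T ⟶ W)
    (h : ∀ c (g : G c ⟶ T), ∃ l, l ≫ r = g ≫ x) : ∃ l, l ≫ r = x := by
  haveI : IsIso (pullback.snd r x) := isIso_of_mono_gen hG _ fun c g => by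
    obtain ⟨l, hl⟩ := h c g
    exact ⟨pullback.lift l g hl, pullback.lift_snd _ _ _⟩
  exact ⟨inv (pullback.snd r x) ≫ pullback.fst r x, by
    rw [Category.assoc, pullback.condition, IsIso.inv_hom_id_assoc]⟩

/-- descent along a covering family -/
theorem Cov.existsUnique_desc {ι : Type u} {Y : ι → E} {X : E} {f : ∀ i, Y i ⟶ X} (h : Cov f) {Z : E}
    (z : ∀ i, Y i ⟶ Z)
    (hz : ∀ (c : J₀) i j (a : G c ⟶ Y i) (b : G c ⟶ Y j), a ≫ f i = b ≫ f j → a ≫ z i = b ≫ z j) :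
    ∃! d, ∀ i, f i ≫ d = z i := by
  haveI := h.good.effectiveEpi
  have key : ∀ {W : E} (g₁ g₂ : W ⟶ ∐ Y), g₁ ≫ Sigma.desc f = g₂ ≫ Sigma.desc f →
      g₁ ≫ Sigma.desc z = g₂ ≫ Sigma.desc z := by
    intro W g₁ g₂ hg
    refine gen_hom_ext hG fun c s => ?_
    refine hom_ext_pullback Y (s ≫ g₁) fun i => ?_
    refine hom_ext_pullback Y (pullback.fst (s ≫ g₁) (Sigma.ι Y i) ≫ s ≫ g₂) fun j => ?_
    refine gen_hom_ext hG fun d w => ?_
    let P := pullback.fst (s ≫ g₁) (Sigma.ι Y i)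
    let Q := pullback.fst (P ≫ s ≫ g₂) (Sigma.ι Y j)
    let a : G d ⟶ Y i := w ≫ Q ≫ pullback.snd (s ≫ g₁) (Sigma.ι Y i)
    let b : G d ⟶ Y j := w ≫ pullback.snd (P ≫ s ≫ g₂) (Sigma.ι Y j)
    have ha : a ≫ Sigma.ι Y i = w ≫ Q ≫ P ≫ s ≫ g₁ := by
      simp only [a, P, Category.assoc]; rw [← pullback.condition]
    have hb : b ≫ Sigma.ι Y j = w ≫ Q ≫ P ≫ s ≫ g₂ := by
      simp only [b, Q, Category.assoc]; rw [← pullback.condition]
    have hab : a ≫ f i = b ≫ f j := by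
      rw [← Sigma.ι_desc f i, ← Sigma.ι_desc f j, reassoc_of% ha, reassoc_of% hb, hg]
    have := hz d i j a b hab
    rw [← Sigma.ι_desc z i, ← Sigma.ι_desc z j, reassoc_of% ha, reassoc_of% hb] at this
    simpa only [Category.assoc] using this
  refine ⟨EffectiveEpi.desc (Sigma.desc f) (Sigma.desc z) key, fun i => ?_, fun d hd => ?_⟩
  · rw [← Sigma.ι_desc f i, Category.assoc, EffectiveEpi.fac, Sigma.ι_desc]
  · exact h.hom_ext fun i => by
      rw [hd, ← Sigma.ι_desc f i, Category.assoc, EffectiveEpi.fac, Sigma.ι_desc]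

end Groth.Agent.SubTopos.Giraud
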